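import Cfsg.Agent.StandardComponent.HeldType.NoSwap

/-!
# S1747, piece (B2): the centraliser of a unitary involution

`t` an involution normalising `T0`, interchanging `E1` and `E2`, centralising `V`; `z ∈ V`, `z ≠ 1`.
Every 2-subgroup of `C(t) ∩ C(z)` has order at most `32`.
-/

set_option autoImplicit false

namespace Cfsg.Agent.StdHeld.BoundB2

open Cfsg.Agent.Lib.FieldFour Cfsg.Agent.StandardComponent.HeldType.Frame
  Cfsg.Agent.StandardComponent.HeldType.Act Cfsg.Agent.StandardComponent.HeldType.ActType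
  Cfsg.Agent.StandardComponent.HeldType.Ctx Cfsg.Agent.StandardComponent.HeldType
  Cfsg.Agent.StandardComponent.HeldType.Basic

/-- A subgroup `A` of `B` such that the product of two elements of `B \ A` is in `A` has index at most two. -/
theorem card_le_two_mul {G : Type*} [Group G] [Finite G] (A B : Subgroup G)
    (h : ∀ b ∈ B, ∀ b' ∈ B, b ∉ A → b' ∉ A → b * b' ∈ A) : Nat.card B ≤ 2 * Nat.card A := by
  classical
  by_cases hBA : B ≤ A
  · have := Subgroup.card_le_of_le hBA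
    omega
  · obtain ⟨b0, hb0, hb0'⟩ := Set.not_subset.1 hBA
    have h1 : ∀ b : B, (b : G) ∉ A → (b : G) * b0 ∈ A := fun b hb => h b b.2 b0 hb0 hb hb0'
    let f : B → A × Bool := fun b =>
      if hb : (b : G) ∈ A then (⟨b, hb⟩, false) else (⟨b * b0, h1 b hb⟩, true)
    have hf : Function.Injective f := by
      intro b b' hbb
      simp only [f] at hbb
      split_ifs at hbb with h2 h3 h3
      · have := congrArg (fun p => (p.1 : G)) hbb
        exact Subtype.ext this
      · have := congrArg Prod.snd hbb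
        simp at this
      · have := congrArg Prod.snd hbb
        simp at this
      · have := congrArg (fun p => (p.1 : G)) hbb
        exact Subtype.ext (mul_right_cancel this)
    have h2 := Nat.card_le_card_of_injective f hf
    rw [Nat.card_prod, Nat.card_eq_fintype_card (α := Bool), Fintype.card_bool] at h2
    omega

variable {G : Type*} [Group G] {L : Subgroup G} {F : Frm L}

/-- a 2-element normalising `L` and acting linearly on `T0 / D0` lies in `T0`. -/
theorem mem_T0 (hK : ∀ k, Cen L k → (∃ n, k ^ (2 ^ n) = 1) → k ∈ F.V) {g : G} (hg : Nrm L g)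
    {l m : F4} (hl : l ≠ 0) (hm : m ≠ 0) (hA : Acts F g false false l m) {n : ℕ}
    (hn : g ^ 2 ^ n = 1) : g ∈ F.T0 := by
  have h1 := acts_pow F hA (2 ^ n)
  rw [hn] at h1
  obtain ⟨-, -, h2, h3⟩ := acts_unique F (acts_one F) h1 one_ne_zero one_ne_zero
  have hl1 := eq_one_of_pow_two_pow h2.symm
  have hm1 := eq_one_of_pow_two_pow h3.symm
  subst hl1 hm1
  obtain ⟨h4, h5⟩ := (acts_trivial_iff F).1 hA
  obtain ⟨a, b, c, s, h6⟩ := F.out g hg h4 h5
  set t := F.x a * F.y b * F.d c s with ht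
  have htT : t ∈ F.T0 := ⟨a, b, c, s, rfl⟩
  set k := t⁻¹ * g with hk
  have hgk : g = t * k := by rw [hk]; group
  obtain ⟨j, hj⟩ := (T0.isPGroup_T0 F) ⟨t, htT⟩
  have hj' : t ^ 2 ^ j = 1 := congrArg Subtype.val hj
  have hkL : Cen L k := h6
  have hc : Commute t k := (hkL t (T0.T0_le F htT)).symm
  have h7 : k ^ 2 ^ (j + n) = 1 := by
    have h8 : (t * k) ^ 2 ^ (j + n) = 1 := by
      rw [← hgk, pow_add, mul_comm (2 ^ j), pow_mul, hn, one_pow]
    have h9 : t ^ 2 ^ (j + n) = 1 := by rw [pow_add, pow_mul, hj', one_pow]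
    rw [hc.mul_pow, h9, one_mul] at h8
    exact h8
  rw [hgk]
  exact F.T0.mul_mem htT (T0.V_le F (hK k hkL ⟨_, h7⟩))

/-- nonswapping elements normalising `L` have types with equal parities. -/
theorem parity {g : G} (hg : Nrm L g) {e e' : Bool} {l m : F4} (hl : l ≠ 0) (hm : m ≠ 0)
    (hA : Acts F g e e' l m) : e = e' := by
  have h3 : ∀ s, (dact e e' l m 0 s).1 = 0 := by
    intro s
    obtain ⟨s', hs'⟩ := (V_iff F hg _).1 ⟨s, rfl⟩
    rw [act_d F hA] at hs'
    exact (T0.d_inj F hs').1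
  have key : ∀ (e e' : Bool) (l m : F4), l ≠ 0 → m ≠ 0 → (∀ s, (dact e e' l m 0 s).1 = 0) →
      e = e' := by decide
  exact key e e' l m hl hm h3

/-- the exact action of the second factor of a unitary element -/
theorem cent_le_D0 {t : G} (hL : Nrm L t) (hN : NT F t) (hE : ¬ NE F t) (ht2 : t * t = 1)
    (hV : ∀ s, t * F.d 0 s * t⁻¹ = F.d 0 s) :
    ∃ l : F4, l ≠ 0 ∧ (∀ c s, t * F.d c s * t⁻¹ = F.d (l * c ^ 2) s) ∧
      ∀ u ∈ F.T0, t * u = u * t → u ∈ F.D0 := by
  obtain ⟨k, e, l, m, ⟨a0, b0, c0, s0, hk⟩, hl, hm, -, hcase⟩ := F.outN t hL (fun a b c s => by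
    obtain ⟨a', b', c', s', h2⟩ := (hN (F.t a b c s)).1 ⟨a, b, c, s, rfl⟩
    exact ⟨a', b', c', s', h2⟩)
  have ht0 : F.t a0 b0 c0 s0 ∈ F.T0 := ⟨a0, b0, c0, s0, rfl⟩
  have hk' : t = F.t a0 b0 c0 s0 * k := hk
  have hkk : k = (F.t a0 b0 c0 s0)⁻¹ * t := by rw [hk']; group
  rcases hcase with ⟨hx, hy⟩ | ⟨hx, hy⟩
  · exfalso
    -- no interchange
    have hAk : Acts F k e e l m :=
      ⟨fun a => ⟨0, 0, by rw [hx, F.d_zero, mul_one]⟩, fun b => ⟨0, 0, by rw [hy, F.d_zero, mul_one]⟩⟩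
    have hAt : Acts F t e e l m := by
      have := acts_mul F (acts_T0 F ht0) hAk
      have key : ∀ (l : F4), sm false 1 l = l := by decide
      rwa [← hk', key, key, Bool.false_xor] at this
    rcases E_cases F hN with h | h
    · exact hE h
    · obtain ⟨e1, e1', l1, m1, hl1, hm1, hS⟩ := exists_actsS F hN h.1 h.2
      obtain ⟨c1, s1, h4⟩ := hS.1 1
      obtain ⟨c2, s2, h5⟩ := hAt.1 1
      rw [h4, F.xd_eq_t, F.yd_eq_t] at h5
      have h6 := (F.t_inj h5).1
      exact absurd (sm_eq_zero e l 1 hl h6.symm) (by decide)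
  · have hSk : ActsS F k e e l m :=
      ⟨fun a => ⟨0, 0, by rw [hx, F.d_zero, mul_one]⟩, fun b => ⟨0, 0, by rw [hy, F.d_zero, mul_one]⟩⟩
    have hkd : ∀ c s, k * F.d c s * k⁻¹ = F.d (dactS e e l m c s).1 (dactS e e l m c s).2 :=
      fun c s => actS_d F hSk c s
    have htd : ∀ c s, t * F.d c s * t⁻¹ = F.d (dactS e e l m c s).1 (dactS e e l m c s).2 := by
      intro c s
      have e1 : t * F.d c s * t⁻¹ = F.t a0 b0 c0 s0 * (k * F.d c s * k⁻¹) * (F.t a0 b0 c0 s0)⁻¹ := by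
        rw [hk']; group
      rw [e1, hkd, mul_inv_eq_iff_eq_mul]
      exact (T0.D0_comm F ⟨_, _, rfl⟩ ht0).symm
    have h3 : ∀ s, dactS e e l m 0 s = (0, s) := by
      intro s
      have h4 := htd 0 s
      rw [hV] at h4
      obtain ⟨h5, h6⟩ := T0.d_inj F h4
      exact (Prod.ext h5 h6).symm
    have key : ∀ (e : Bool) (l m : F4), l ≠ 0 → m ≠ 0 → (∀ s, dactS e e l m 0 s = (0, s)) →
        e = true ∧ l ^ 2 * m = 1 := by decide
    obtain ⟨rfl, hlm⟩ := key e l m hl hm h3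
    have htd' : ∀ c s, t * F.d c s * t⁻¹ = F.d (l * m * c ^ 2) s := by
      intro c s
      rw [htd]
      simp only [dactS, hlm, one_mul]
    -- the action of `k` on `T0`
    have hkt : ∀ a b c s, k * F.t a b c s * k⁻¹ =
        F.t (m * b ^ 2) (l * a ^ 2) (l * m * c ^ 2 + m * b ^ 2 * (l * a ^ 2))
          (s + m * b ^ 2 * (l * a ^ 2) ^ 2) := by
      intro a b c s
      rw [F.conj_t, hx, hy, hkd]
      change F.y (l * a ^ 2) * F.x (m * b ^ 2) * F.d (l * m * c ^ 2) (l ^ 2 * m * s) = _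
      rw [hlm, one_mul, F.y_x, mul_assoc, ← F.d_add, F.t_def, add_comm (m * b ^ 2 * (l * a ^ 2)),
        add_comm (m * b ^ 2 * (l * a ^ 2) ^ 2)]
    -- `k * k` centralises `T0`
    have hk2T : k * k ∈ F.T0 := by
      have h7 : k * k = (k * F.t a0 b0 c0 s0 * k⁻¹)⁻¹ * (F.t a0 b0 c0 s0)⁻¹ * (t * t) := by
        rw [hk']; group
      rw [h7, ht2, mul_one, hkt]
      exact F.T0.mul_mem (F.T0.inv_mem ⟨_, _, _, _, rfl⟩) (F.T0.inv_mem ht0)
    have hk2c : ∀ u ∈ F.T0, k * k * u = u * (k * k) := by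
      rintro _ ⟨a, b, c, s, rfl⟩
      rw [← mul_inv_eq_iff_eq_mul]
      have e1 : k * k * F.t a b c s * (k * k)⁻¹ = k * (k * F.t a b c s * k⁻¹) * k⁻¹ := by group
      rw [e1, hkt, hkt]
      have key2 : ∀ l m a b : F4, l ^ 2 * m = 1 → m * (l * a ^ 2) ^ 2 = a ∧
          l * (m * b ^ 2) ^ 2 = b := by decide
      obtain ⟨q1, q2⟩ := key2 l m a b hlm
      have key3 : ∀ l m a b c : F4, l ^ 2 * m = 1 →
          l * m * (l * m * c ^ 2 + m * b ^ 2 * (l * a ^ 2)) ^ 2 + a * b = c := by decide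
      have key4 : ∀ l m a b s : F4, l ^ 2 * m = 1 →
          s + m * b ^ 2 * (l * a ^ 2) ^ 2 + a * b ^ 2 = s := by decide
      rw [q1, q2, key3 l m a b c hlm, key4 l m a b s hlm]
    have hk2D := T0.mem_D0_of_comm F hk2T hk2c
    -- hence `b0 = l * a0 ^ 2`
    have hab : b0 = l * a0 ^ 2 := by
      have h7 : F.t a0 b0 c0 s0 * (k * F.t a0 b0 c0 s0 * k⁻¹) * (k * k) = 1 := by
        rw [← ht2, hk']; group
      obtain ⟨c1, s1, h8⟩ := hk2D
      rw [h8, hkt, F.t_mul, F.d_eq_t, F.t_mul, ← F.t_zero] at h7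
      have h9 := (F.t_inj h7).2.1
      rw [add_zero] at h9
      have key5 : ∀ p q : F4, p + q = 0 → p = q := by decide
      exact key5 _ _ h9
    refine ⟨l * m, mul_ne_zero hl hm, htd', ?_⟩
    rintro _ ⟨a, b, c, s, rfl⟩ hu
    rw [← mul_inv_eq_iff_eq_mul] at hu
    have e1 : t * F.t a b c s * t⁻¹ =
        F.t a0 b0 c0 s0 * (k * F.t a b c s * k⁻¹) * (F.t a0 b0 c0 s0)⁻¹ := by rw [hk']; group
    rw [e1, hkt, F.t_conj] at hu
    obtain ⟨u1, u2, -, u4⟩ := F.t_inj hu
    have key6 : ∀ l m a0 a s : F4, l ^ 2 * m = 1 → ∀ b, l * a ^ 2 = b → m * b ^ 2 = a →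
        s + m * b ^ 2 * (l * a ^ 2) ^ 2 + (a0 * (l * a ^ 2) ^ 2 + m * b ^ 2 * (l * a0 ^ 2) ^ 2) = s →
        a = 0 ∧ b = 0 := by decide
    rw [hab] at u4
    obtain ⟨rfl, rfl⟩ := key6 l m a0 a s hlm b u2 u1 u4
    exact ⟨c, s, (F.d_eq_t c s).symm⟩

/-- The bound, for a frame with `T0` normalised by `R` and `t`. -/
theorem bound_aux [Finite G] (hK : ∀ k, Cen L k → (∃ n, k ^ (2 ^ n) = 1) → k ∈ F.V) {t : G}
    (hL : Nrm L t) (hN : NT F t) (hE : ¬ NE F t) (ht2 : t * t = 1)
    (hV : ∀ s, t * F.d 0 s * t⁻¹ = F.d 0 s) (R : Subgroup G) (hR : IsPGroup 2 R)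
    (hRL : ∀ r ∈ R, Nrm L r) (hRN : ∀ r ∈ R, NT F r) (hRt : ∀ r ∈ R, r * t = t * r) :
    Nat.card R ≤ 32 := by
  classical
  obtain ⟨l, hl, htd, hcent⟩ := cent_le_D0 hL hN hE ht2 hV
  -- `R ∩ T0` has order at most `8`
  have h8 : Nat.card (R ⊓ F.T0 : Subgroup G) ≤ 8 := by
    let P : Finset (F4 × F4) := Finset.univ.filter fun p => l * p.1 ^ 2 = p.1
    have hP : P.card ≤ 8 := by
      have key : ∀ l : F4, l ≠ 0 →
          (Finset.univ.filter fun p : F4 × F4 => l * p.1 ^ 2 = p.1).card ≤ 8 := by decide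
      exact key l hl
    have h1 : ∀ r : (R ⊓ F.T0 : Subgroup G), ∃ p : P, (r : G) = F.d p.1.1 p.1.2 := by
      rintro ⟨r, hr, hrT⟩
      obtain ⟨c, s, h2⟩ := hcent r hrT (hRt r hr).symm
      refine ⟨⟨(c, s), Finset.mem_filter.2 ⟨Finset.mem_univ _, ?_⟩⟩, h2⟩
      have h3 : t * F.d c s * t⁻¹ = F.d c s := by
        rw [mul_inv_eq_iff_eq_mul, ← h2]
        exact (hRt r hr).symm
      rw [htd] at h3
      exact (T0.d_inj F h3).1
    choose f hf using h1
    have hinj : Function.Injective f := by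
      intro r r' hrr
      apply Subtype.ext
      rw [hf r, hf r', hrr]
    have h2 := Nat.card_le_card_of_injective f hinj
    rw [Nat.card_eq_fintype_card (α := P), Fintype.card_coe] at h2
    exact h2.trans hP
  -- index at most four
  have hpow : ∀ r ∈ R, ∃ n, r ^ 2 ^ n = 1 := by
    intro r hr
    obtain ⟨n, hn⟩ := hR ⟨r, hr⟩
    exact ⟨n, congrArg Subtype.val hn⟩
  have h2 : Nat.card (NoSwap.plus F R hRN) ≤ 2 * Nat.card (R ⊓ F.T0 : Subgroup G) := by
    apply card_le_two_mul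
    have key : ∀ b ∈ NoSwap.plus F R hRN, b ∉ R ⊓ F.T0 → ∃ l m, l ≠ 0 ∧ m ≠ 0 ∧
        Acts F b true true l m := by
      rintro b ⟨hb, hbE⟩ hb'
      obtain ⟨e, e', l, m, hl, hm, hA⟩ := exists_acts F (hRN b hb) hbE.1 hbE.2
      obtain rfl := parity (hRL b hb) hl hm hA
      cases e
      · exfalso
        obtain ⟨n, hn⟩ := hpow b hb
        exact hb' ⟨hb, mem_T0 hK (hRL b hb) hl hm hA hn⟩
      · exact ⟨l, m, hl, hm, hA⟩
    intro b hb b' hb' hn hn'
    obtain ⟨l1, m1, hl1, hm1, hA⟩ := key b hb hn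
    obtain ⟨l2, m2, hl2, hm2, hA'⟩ := key b' hb' hn'
    have hm := R.mul_mem hb.1 hb'.1
    obtain ⟨n, hn⟩ := hpow _ hm
    exact ⟨hm, mem_T0 hK (hRL _ hm) (sm_ne_zero _ _ _ hl1 hl2) (sm_ne_zero _ _ _ hm1 hm2)
      (acts_mul F hA hA') hn⟩
  have h3 : Nat.card R ≤ 2 * Nat.card (NoSwap.plus F R hRN) := by
    apply card_le_two_mul
    intro b hb b' hb' hn hn'
    exact ⟨R.mul_mem hb hb', NoSwap.NE_mul_of_swap (hRN b hb) (hRN b' hb')
      (fun h => hn ⟨hb, h⟩) (fun h => hn' ⟨hb', h⟩)⟩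
  omega

/-- (B2) -/
theorem bound [Finite G] (H : Sit F) (t : G) (s : F4) (hN : NT F t) (hE : ¬ NE F t)
    (ht2 : t * t = 1) (hV : ∀ r, t * F.d 0 r = F.d 0 r * t) (hs : s ≠ 0) (R : Subgroup G)
    (hR : IsPGroup 2 R) (hRt : ∀ r ∈ R, r * t = t * r)
    (hRz : ∀ r ∈ R, r * F.d 0 s = F.d 0 s * r) : Nat.card R ≤ 32 := by
  classical
  -- the 2-group `R' = R <t>`
  let R' : Subgroup G :=
    { carrier := {g | g ∈ R ∨ g * t ∈ R}
      one_mem' := Or.inl R.one_mem
      mul_mem' := by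
        rintro a b (ha | ha) (hb | hb)
        · exact Or.inl (R.mul_mem ha hb)
        · refine Or.inr ?_
          rw [mul_assoc]
          exact R.mul_mem ha hb
        · refine Or.inr ?_
          have e : a * b * t = a * t * b := by rw [mul_assoc, hRt b hb, mul_assoc]
          rw [e]
          exact R.mul_mem ha hb
        · refine Or.inl ?_
          have e : a * b = (a * t) * (b * t) := by
            have h1 := hRt _ hb
            rw [mul_assoc] at h1
            calc a * b = a * (t * t) * b := by rw [ht2, mul_one]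
              _ = a * t * (t * b) := by group
              _ = a * t * (t * (b * t * t)) := by rw [mul_assoc b, ht2, mul_one]
              _ = a * t * (t * (b * t) * t) := by group
              _ = a * t * (b * (t * t) * t) := by rw [← h1]
              _ = _ := by rw [ht2, mul_one]
          rw [e]
          exact R.mul_mem ha hb
      inv_mem' := by
        rintro a (ha | ha)
        · exact Or.inl (R.inv_mem ha)
        · refine Or.inr ?_
          have h1 := hRt _ ha
          have e : a⁻¹ * t = (a * t)⁻¹ := by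
            have h2 : t⁻¹ = t := inv_eq_of_mul_eq_one_left ht2
            rw [mul_inv_rev, h2, eq_comm]
            have h3 : a = (a * t) * t := by rw [mul_assoc, ht2, mul_one]
            have h4 : Commute a t := by
              have h5 : Commute (a * t) t := h1
              have h6 : Commute (a * t * t) t := h5.mul_left (Commute.refl t)
              rwa [← h3] at h6
            exact (h4.inv_left.eq).symm
          rw [e]
          exact R.inv_mem ha }
  have hR'c : ∀ r ∈ R', r * F.d 0 s = F.d 0 s * r := by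
    rintro r (hr | hr)
    · exact hRz r hr
    · have h1 : Commute (r * t) (F.d 0 s) := hRz _ hr
      have h2 : Commute t (F.d 0 s) := hV s
      have h3 : Commute (r * t * t) (F.d 0 s) := h1.mul_left h2
      rw [mul_assoc, ht2, mul_one] at h3
      exact h3.eq
  have hR'L : ∀ r ∈ R', Nrm L r := fun r hr => H.nrm_of_comm_d hs (hR'c r hr)
  have hR'2 : IsPGroup 2 R' := by
    rintro ⟨r, hr⟩
    have h1 : r * r ∈ R := by
      rcases hr with hr | hr
      · exact R.mul_mem hr hr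
      · have h2 := R.mul_mem hr hr
        have h3 : Commute (r * t) t := hRt _ hr
        have h4 : Commute r t := by
          have h6 : Commute (r * t * t) t := h3.mul_left (Commute.refl t)
          rwa [mul_assoc, ht2, mul_one] at h6
        have e : r * t * (r * t) = r * r := by
          calc r * t * (r * t) = r * (t * r) * t := by group
            _ = r * (r * t) * t := by rw [h4.eq]
            _ = r * r * (t * t) := by group
            _ = _ := by rw [ht2, mul_one]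
        rwa [e] at h2
    obtain ⟨n, hn⟩ := hR ⟨_, h1⟩
    have hn' : (r * r) ^ 2 ^ n = 1 := congrArg Subtype.val hn
    refine ⟨n + 1, Subtype.ext ?_⟩
    change r ^ 2 ^ (n + 1) = 1
    rw [pow_succ', pow_mul, pow_two]
    exact hn'
  obtain ⟨F', hF'⟩ := exists_frame_of_isPGroup F R' hR'2 hR'L
  have htR' : t ∈ R' := Or.inr (by rw [ht2]; exact R.one_mem)
  have hRR' : R ≤ R' := fun r hr => Or.inl hr
  -- the centre of `L`
  have hVV : ∀ v, v ∈ F'.V ↔ v ∈ F.V := by
    intro v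
    rw [mem_V_iff, mem_V_iff]
  have hK' : ∀ k, Cen L k → (∃ n, k ^ (2 ^ n) = 1) → k ∈ F'.V := fun k h1 h2 =>
    (hVV k).2 (H.cenK k h1 h2)
  have hV' : ∀ r, t * F'.d 0 r * t⁻¹ = F'.d 0 r := by
    intro r
    obtain ⟨r', hr'⟩ := (hVV _).1 ⟨r, rfl⟩
    rw [hr', mul_inv_eq_iff_eq_mul]
    exact hV r'
  have hE' : ¬ NE F' t := by
    intro h
    have hA := acts_trivial F' (hF' t htR') h.1 h.2 hV' ⟨1, fun x _ => by
      rw [pow_one, pow_two, ht2, one_mul, mul_one]⟩
    have h1 := mem_T0 hK' (hR'L t htR') one_ne_zero one_ne_zero hA (n := 1)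
      (by rw [pow_one, pow_two, ht2])
    exact hE (NoSwap.NE_of_mem (T0.T0_le F' h1) hN)
  exact bound_aux hK' (hR'L t htR') (hF' t htR') hE' ht2 hV' R hR (fun r hr => hR'L r (hRR' hr))
    (fun r hr => hF' r (hRR' hr)) hRt

end Cfsg.Agent.StdHeld.BoundB2
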