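import Cfsg.Agent.StdHeld.Struct

/-!
# S1747, end game: centralisers of involutions in the Sylow 2-subgroup of type `L5(2)` have order at least 64
-/

set_option autoImplicit false

namespace Cfsg.Agent.StdHeld.CentCode

open Cfsg.Agent.SylowL5.Setup

/-- number of codes `m < M` commuting with `n` -/
def cnt (n : ℕ) : ℕ → ℕ := fun M =>
  Nat.rec 0 (fun m ih => cond (Nat.beq (mu m n) (mu n m)) (Nat.succ ih) ih) M

theorem cnt_eq (n M : ℕ) : cnt n M = ((Finset.range M).filter fun m => mu m n = mu n m).card := by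
  induction M with
  | zero => rfl
  | succ M ih =>
    have h1 : cnt n (M + 1) = cond (Nat.beq (mu M n) (mu n M)) (Nat.succ (cnt n M)) (cnt n M) := rfl
    rw [h1, ih, Finset.range_add_one, Finset.filter_insert]
    by_cases h : mu M n = mu n M
    · rw [if_pos h, Finset.card_insert_of_notMem (by simp), h, Nat.beq_refl, cond_true]
    · have h2 : Nat.beq (mu M n) (mu n M) = false := by
        rw [← Bool.not_eq_true, Nat.beq_eq]
        exact h
      rw [if_neg h, h2, cond_false]

theorem cnt_check : allb 1024 (fun n => Nat.beq n 0 || (!(Nat.beq (mu n n) 0)) ||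
    Nat.ble 64 (cnt n 1024)) = true := by decide +kernel

theorem cent_code {n : ℕ} (hn : n < 1024) (h0 : n ≠ 0) (h : mu n n = 0) :
    64 ≤ ((Finset.range 1024).filter fun m => mu m n = mu n m).card := by
  have h1 := of_allb cnt_check n hn
  rw [Bool.or_eq_true, Bool.or_eq_true] at h1
  rw [← cnt_eq]
  rcases h1 with (h1 | h1) | h1
  · exact absurd (Nat.eq_of_beq_eq_true h1) h0
  · rw [h] at h1
    exact absurd h1 (by decide)
  · exact Nat.ble_eq.mp h1

/-- In a group of type `L5(2)` the centraliser of an involution has order at least 64. -/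
theorem card_cent {G : Type*} [Group G] [Finite G] {S : Subgroup G} {u : ℕ → G} (h : Emb S u)
    {e : G} (he : e ∈ S) (h2 : e * e = 1) (h1 : e ≠ 1) :
    64 ≤ Nat.card (S ⊓ Subgroup.centralizer {e} : Subgroup G) := by
  obtain ⟨n, hn, rfl⟩ := h.surj e he
  have hz := h.zero
  have h0 : n ≠ 0 := by
    rintro rfl
    exact h1 hz
  have h3 : mu n n = 0 := by
    apply h.inj (mu_lt hn hn) (by norm_num)
    rw [h.mul hn hn, h2, hz]
  have h4 := cent_code hn h0 h3
  refine h4.trans ?_
  rw [← Set.ncard_coe_finset]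
  set A := (Finset.range 1024).filter fun m => mu m n = mu n m with hA
  have h5 : Set.ncard (u '' (A : Set ℕ)) = Set.ncard (A : Set ℕ) := by
    apply Set.InjOn.ncard_image
    intro a ha b hb hab
    have ha' := Finset.mem_filter.1 (Finset.mem_coe.1 ha)
    have hb' := Finset.mem_filter.1 (Finset.mem_coe.1 hb)
    exact h.inj (Finset.mem_range.1 ha'.1) (Finset.mem_range.1 hb'.1) hab
  rw [← h5]
  apply Set.ncard_le_ncard _ (Set.toFinite _)
  rintro _ ⟨m, hm, rfl⟩
  have hm' := Finset.mem_filter.1 (Finset.mem_coe.1 hm)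
  have hm1 := Finset.mem_range.1 hm'.1
  refine ⟨h.mem hm1, Subgroup.mem_centralizer_singleton_iff.2 ?_⟩
  rw [← h.mul hm1 hn, ← h.mul hn hm1, hm'.2]

end Cfsg.Agent.StdHeld.CentCode
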