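import Mathlib

/-!
# S1747, end game (E2): a Klein four-group centralising an element of order 7, in `SL(5,2)`

* `exists_fix` : if the Klein four-group `V` centralises `s` and `s` preserves ... has exactly three
  fixed points, some involution of `V` fixes them all;
* `fix_modEq` : then the number of fixed points of that involution is `3` modulo `7`;
* `not_sl52` : in `SL(5,2)` no Klein four-group centralises an element of order `7`.
-/

set_option autoImplicit false
open MulAction

namespace Cfsg.Agent.StdHeld.OrderSeven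

variable {G : Type*} [Group G] {Ω : Type*} [MulAction G Ω]

/-- number of fixed points modulo a prime, for an endomorphism with `f^[p] = id`. -/
theorem card_modEq {α : Type*} [Finite α] (p : ℕ) [Fact p.Prime] (f : α → α)
    (hf : ∀ x, f^[p] x = x) : Nat.card α ≡ Nat.card {x // f x = x} [MOD p] := by
  classical
  have : Fintype α := Fintype.ofFinite α
  have h := Equiv.Perm.card_fixedPoints_modEq (α := α) (f := (f : Function.End α)) (p := p)
    (n := 1) (by
      funext x
      rw [pow_one]
      exact hf x)
  rw [← Nat.card_eq_fintype_card, ← Nat.card_eq_fintype_card] at h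
  exact h

/-- A subgroup of order 4 acting on three points has a non-trivial element fixing them. -/
theorem exists_fix [Finite G] (V : Subgroup G) (hV : Nat.card V = 4) (A : Set Ω)
    (hA : Nat.card A = 3) (h : ∀ v ∈ V, ∀ x ∈ A, v • x ∈ A) :
    ∃ t ∈ V, t ≠ 1 ∧ ∀ x ∈ A, t • x = x := by
  classical
  have hfin : Finite A := Nat.finite_of_card_ne_zero (by omega)
  let f : V →* Equiv.Perm A :=
    { toFun := fun v => ⟨fun x => ⟨(v : G) • (x : Ω), h v v.2 x x.2⟩,
        fun x => ⟨(v : G)⁻¹ • (x : Ω), h _ (V.inv_mem v.2) x x.2⟩,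
        fun x => Subtype.ext (inv_smul_smul _ _), fun x => Subtype.ext (smul_inv_smul _ _)⟩
      map_one' := by ext x; simp
      map_mul' := fun a b => by ext x; simp [mul_smul] }
  have hk : f.ker ≠ ⊥ := by
    intro hbot
    have hinj : Function.Injective f := (MonoidHom.ker_eq_bot_iff f).1 hbot
    have h1 := Subgroup.card_dvd_of_injective f hinj
    rw [hV, Nat.card_perm, hA] at h1
    revert h1
    decide
  obtain ⟨⟨t, ht⟩, ht1'⟩ := Subgroup.ne_bot_iff_exists_ne_one.1 hk
  have ht1 : t ≠ 1 := fun h0 => ht1' (Subtype.ext h0)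
  refine ⟨(t : V), (t : V).2, fun h0 => ht1 (Subtype.ext h0), fun x hx => ?_⟩
  have := congrArg (fun g : Equiv.Perm A => ((g ⟨x, hx⟩ : A) : Ω)) ht
  exact this

/-- the fixed points of `t`, if they contain those of `s`, and `s` commutes with `t`. -/
theorem fix_modEq [Finite Ω] {p : ℕ} [Fact p.Prime] {s t : G} (hs : s ^ p = 1)
    (hst : s * t = t * s) (h : ∀ x : Ω, s • x = x → t • x = x) :
    Nat.card {x : Ω // t • x = x} ≡ Nat.card {x : Ω // s • x = x} [MOD p] := by
  have h1 : ∀ x : {x : Ω // t • x = x}, t • (s • (x : Ω)) = s • (x : Ω) := by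
    rintro ⟨x, hx⟩
    change t • s • x = s • x
    rw [← mul_smul, ← hst, mul_smul, hx]
  let f : {x : Ω // t • x = x} → {x : Ω // t • x = x} := fun x => ⟨s • (x : Ω), h1 x⟩
  have hf : ∀ n : ℕ, ∀ x : {x : Ω // t • x = x}, ((f^[n] x : {x : Ω // t • x = x}) : Ω) =
      s ^ n • (x : Ω) := by
    intro n
    induction n with
    | zero => intro x; simp
    | succ n ih =>
      intro x
      rw [Function.iterate_succ_apply, ih, pow_succ, mul_smul]
  have h2 := card_modEq p f (fun x => Subtype.ext (by rw [hf, hs, one_smul]))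
  refine h2.trans ?_
  have h3 : Nat.card {x : {x : Ω // t • x = x} // f x = x} = Nat.card {x : Ω // s • x = x} := by
    refine Nat.card_congr
      { toFun := fun x => ⟨x.1.1, congrArg Subtype.val x.2⟩
        invFun := fun x => ⟨⟨x.1, h x.1 x.2⟩, Subtype.ext x.2⟩
        left_inv := fun x => rfl
        right_inv := fun x => rfl }
  rw [h3]

/-- fixed points of `s` modulo `p`. -/
theorem card_fix_modEq [Finite Ω] {p : ℕ} [Fact p.Prime] {s : G} (hs : s ^ p = 1) :
    Nat.card Ω ≡ Nat.card {x : Ω // s • x = x} [MOD p] := by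
  have hf : ∀ n : ℕ, ∀ x : Ω, (fun x : Ω => s • x)^[n] x = s ^ n • x := by
    intro n
    induction n with
    | zero => intro x; simp
    | succ n ih =>
      intro x
      rw [Function.iterate_succ_apply, ih, pow_succ, mul_smul]
  exact card_modEq p (fun x : Ω => s • x) (fun x => by rw [hf, hs, one_smul])

/-- In `SL(5,2)` no subgroup of order 4 centralises an element of order 7. -/
theorem not_sl52 (s : Matrix.SpecialLinearGroup (Fin 5) (ZMod 2)) (hs : orderOf s = 7)
    (V : Subgroup (Matrix.SpecialLinearGroup (Fin 5) (ZMod 2))) (hV : Nat.card V = 4)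
    (hV2 : ∀ v ∈ V, v * v = 1) (hc : ∀ v ∈ V, s * v = v * s) : False := by
  classical
  have : Fact (Nat.Prime 7) := ⟨by norm_num⟩
  let W := Fin 5 → ZMod 2
  have hW : Nat.card W = 32 := by
    rw [Nat.card_eq_fintype_card]; decide
  -- the fixed vectors of `g`
  let K : Matrix.SpecialLinearGroup (Fin 5) (ZMod 2) → AddSubgroup W := fun g =>
    { carrier := {x | (g : Matrix (Fin 5) (Fin 5) (ZMod 2)).mulVec x = x}
      zero_mem' := Matrix.mulVec_zero _
      add_mem' := fun {a b} ha hb => by
        change _ = _ at ha hb ⊢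
        rw [Matrix.mulVec_add, ha, hb]
      neg_mem' := fun {a} ha => by
        change _ = _ at ha ⊢
        rw [Matrix.mulVec_neg, ha] }
  have hK2 : ∀ g, ∃ k ≤ 5, Nat.card (K g) = 2 ^ k := by
    intro g
    have h1 : Nat.card (K g) ∣ 2 ^ 5 := by
      have := AddSubgroup.card_addSubgroup_dvd_card (K g)
      rw [hW] at this
      exact this
    exact (Nat.dvd_prime_pow Nat.prime_two).1 h1
  have hKfix : ∀ g, Nat.card {x : W // g • x = x} = Nat.card (K g) := fun g => rfl
  have hK5 : ∀ g, Nat.card (K g) = 2 ^ 5 → g = 1 := by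
    intro g hg
    have h1 : K g = ⊤ := AddSubgroup.eq_top_of_card_eq _ (by rw [hg, hW]; norm_num)
    apply Matrix.SpecialLinearGroup.ext
    intro i j
    have h2 : (Pi.single j 1 : W) ∈ K g := by rw [h1]; exact AddSubgroup.mem_top _
    have h3 : (g : Matrix (Fin 5) (Fin 5) (ZMod 2)).mulVec (Pi.single j 1) = Pi.single j 1 := h2
    rw [Matrix.mulVec_single_one] at h3
    have h4 := congrFun h3 i
    rw [Matrix.SpecialLinearGroup.coe_one]
    change (g : Matrix (Fin 5) (Fin 5) (ZMod 2)) i j = _ at h4
    rw [h4, Matrix.one_apply, Pi.single_apply]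
  -- `s` fixes four vectors
  have hs7 : s ^ 7 = 1 := by rw [← hs]; exact pow_orderOf_eq_one s
  have hs1 : s ≠ 1 := by
    rintro rfl
    rw [orderOf_one] at hs
    omega
  have hfour : ∀ g : Matrix.SpecialLinearGroup (Fin 5) (ZMod 2), g ≠ 1 →
      Nat.card (K g) ≡ 4 [MOD 7] → Nat.card (K g) = 4 := by
    intro g hg h
    obtain ⟨k, hk, hk2⟩ := hK2 g
    have h5 : k ≠ 5 := by
      rintro rfl
      exact hg (hK5 g hk2)
    rw [hk2] at h ⊢
    interval_cases k <;> first | rfl | (exfalso; revert h; decide) | exact absurd rfl h5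
  have hs4 : Nat.card (K s) = 4 := by
    apply hfour s hs1
    have h1 := card_fix_modEq (Ω := W) (p := 7) hs7
    rw [hKfix, hW] at h1
    exact h1.symm.trans (by decide)
  -- an involution `t` of `V` fixing them
  let A : Set W := {x | s • x = x ∧ x ≠ 0}
  have hA : Nat.card A = 3 := by
    have h1 : Nat.card A + 1 = Nat.card (K s) := by
      have h2 : (insert 0 A : Set W) = (K s : Set W) := by
        ext x
        constructor
        · rintro (rfl | hx)
          · exact (K s).zero_mem
          · exact hx.1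
        · intro hx
          by_cases h0 : x = 0
          · exact Or.inl h0
          · exact Or.inr ⟨hx, h0⟩
      have h3 : (insert 0 A : Set W).ncard = A.ncard + 1 :=
        Set.ncard_insert_of_notMem (fun h => h.2 rfl) (Set.toFinite _)
      rw [h2] at h3
      exact h3.symm
    omega
  have hstab : ∀ v ∈ V, ∀ x ∈ A, v • x ∈ A := by
    rintro v hv x ⟨hx, hx0⟩
    refine ⟨?_, fun h0 => hx0 ?_⟩
    · rw [← mul_smul, hc v hv, mul_smul, hx]
    · have h1 : v⁻¹ • (v • x) = v⁻¹ • (0 : W) := by rw [h0]
      rw [inv_smul_smul, smul_zero] at h1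
      exact h1
  obtain ⟨t, htV, ht1, ht⟩ := exists_fix V hV A hA hstab
  have ht' : ∀ x : W, s • x = x → t • x = x := by
    intro x hx
    by_cases h0 : x = 0
    · rw [h0, smul_zero]
    · exact ht x ⟨hx, h0⟩
  have ht4 : Nat.card (K t) = 4 := by
    apply hfour t ht1
    have h1 := fix_modEq (Ω := W) (p := 7) hs7 (hc t htV) ht'
    rw [hKfix, hKfix, hs4] at h1
    exact h1
  -- but an involution fixes at least 8 vectors
  let φ : W →+ W :=
    { toFun := fun x => t • x - x
      map_zero' := by simp
      map_add' := fun a b => by rw [smul_add]; abel }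
  have hker : φ.ker = K t := by
    ext x
    rw [AddMonoidHom.mem_ker]
    change t • x - x = 0 ↔ t • x = x
    rw [sub_eq_zero]
  have hran : φ.range ≤ K t := by
    rintro _ ⟨x, rfl⟩
    change t • (t • x - x) = t • x - x
    rw [smul_sub, ← mul_smul, hV2 t htV, one_smul]
    have h2 : ∀ a : W, a = -a := by
      intro a
      funext i
      have : ∀ c : ZMod 2, c = -c := by decide
      exact this (a i)
    rw [h2 (x - t • x), neg_sub]
  have h1 := φ.ker.card_mul_index
  rw [AddSubgroup.index_ker, hker, ht4, hW] at h1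
  have h2 := AddSubgroup.card_le_of_le hran
  rw [ht4] at h2
  omega

end Cfsg.Agent.StdHeld.OrderSeven
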