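import Cfsg.Agent.J4Type.InvFix
import Cfsg.Agent.StdHeld.OrderSeven

/-!
# S1747, end game (E2): in `M24` no Klein four-group centralises an element of order 7
-/

set_option autoImplicit false
open Cfsg MulAction

namespace Cfsg.Agent.StdHeld.NotM24

open Cfsg.Agent.StdHeld.OrderSeven
open Cfsg.Agent.J4Type.InvFix
open Cfsg.Agent.SporadicStructure.M24IndexAbs Cfsg.Agent.SporadicStructure.M24IndexMain
open Cfsg.Agent.SporadicStructure.M23Index253 (exists_map card_golayPt smul_mem_octads)
open Cfsg.Agent.SporadicStructure.M23LocalInput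

/-- In `M24` no subgroup of order 4 and exponent 2 centralises an element of order 7. -/
theorem not_m24 (s : M24) (hs : orderOf s = 7) (V : Subgroup M24) (hV : Nat.card V = 4)
    (hV2 : ∀ v ∈ V, v * v = 1) (hc : ∀ v ∈ V, s * v = v * s) : False := by
  classical
  have : Fact (Nat.Prime 7) := ⟨by norm_num⟩
  have : Fact (Nat.Prime 2) := ⟨by norm_num⟩
  have hΩ : Nat.card GolayPt = 24 := by rw [Nat.card_eq_fintype_card]; exact card24
  have hs7 : s ^ 7 = 1 := by rw [← hs]; exact pow_orderOf_eq_one s
  have hs1 : s ≠ 1 := by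
    rintro rfl
    rw [orderOf_one] at hs
    omega
  obtain ⟨hga, hgb⟩ := fix_card card24 fixBound24 (by norm_num) (by norm_num) hs1 hs7
  unfold Nat.ModEq at hgb
  have hcard : ∀ g : M24, Nat.card {x : GolayPt // g • x = x} =
      (Finset.univ.filter fun x : GolayPt => g • x = x).card := by
    intro g
    rw [Nat.card_eq_fintype_card, Fintype.card_subtype]
  have hs3 : Nat.card {x : GolayPt // s • x = x} = 3 := by rw [hcard]; omega
  obtain ⟨t, htV, ht1, ht⟩ := exists_fix (Ω := GolayPt) V hV {x | s • x = x} hs3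
    (fun v hv x hx => by
      change s • v • x = v • x
      rw [← mul_smul, hc v hv, mul_smul]
      exact congrArg _ hx)
  have h7 := fix_modEq (Ω := GolayPt) (p := 7) hs7 (hc t htV) ht
  have ht2 : t ^ 2 = 1 := by rw [pow_two]; exact hV2 t htV
  have h2 := card_fix_modEq (Ω := GolayPt) (p := 2) ht2
  have h8 : (Finset.univ.filter fun x : GolayPt => t • x = x).card ≤ 8 :=
    card_fix_le ht2 ht1 (fun p hp => (Finset.mem_filter.1 hp).2)
  rw [hs3] at h7
  rw [hΩ] at h2
  rw [← hcard] at h8
  unfold Nat.ModEq at h7 h2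
  omega

end Cfsg.Agent.StdHeld.NotM24
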