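import Cfsg.Prelude.Def_Spor_He
import Cfsg.Agent.StandardComponent.HeldType.NoSwap
import Cfsg.Agent.StandardComponent.HeldType.OddPart
import Cfsg.Agent.StdHeld.CentCode
import Cfsg.Agent.StdHeld.NotM24

/-!
# S1747, the last step

From `Sit F`, `Full F` (all types occur in `N(T0)`), the fusion statement (A3), the Sylow statement (B1), the
centraliser bound (B2) and the recognition theorem by Sylow 2-subgroups of type `L5(2)` (strong form of S0512):
`G` is the Held group.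
-/

set_option autoImplicit false

namespace Cfsg.Agent.StdHeld.Final

open Cfsg.Agent.Lib.FieldFour Cfsg.Agent.StandardComponent.HeldType.Frame
  Cfsg.Agent.StandardComponent.HeldType.Act Cfsg.Agent.StandardComponent.HeldType.ActType
  Cfsg.Agent.StandardComponent.HeldType.Ctx Cfsg.Agent.StandardComponent.HeldType
  Cfsg.Agent.StdHeld.Compl Cfsg.Agent.StdHeld.Struct

variable {G : Type*} [Group G] {L : Subgroup G} {F : Frm L}

theorem exists_hyp [Finite G] (H : Sit F) (hf : NoSwap.Full F) : ∃ Y, Hyp F Y := by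
  obtain ⟨Y, h1, h2, h3, h4⟩ := OddPart.exists_odd H
  refine ⟨Y, h1, fun {y t} hy ht => h2 y hy t (T0.T0_le F ht), fun g hg y hy => (h4 g hg y).1 hy,
    ?_, hf⟩
  intro g _ hA
  obtain ⟨t, ht, k, hk, rfl⟩ := H.kernel hA
  obtain ⟨v, hv, hvk⟩ := h3 k hk
  refine ⟨t * v, F.T0.mul_mem ht (T0.V_le F hv), ?_⟩
  have e : (t * v)⁻¹ * (t * k) = v⁻¹ * k := by group
  rw [e]
  exact hvk

/-- an element of order `7` of `L`, centralising the four-group `V` -/
theorem exists_seven [Finite G] (F : Frm L) : ∃ s : G, orderOf s = 7 ∧ ∀ v ∈ F.V, s * v = v * s := by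
  have : Fact (Nat.Prime 7) := ⟨by norm_num⟩
  obtain ⟨s, hs⟩ := exists_prime_orderOf_dvd_card' (G := L) 7 (by rw [F.card_L]; norm_num)
  refine ⟨s, ?_, fun v hv => (F.V_comm hv s.2).symm⟩
  rw [Subgroup.orderOf_coe, hs]

theorem not_equiv {G' : Type*} [Group G'] [Finite G] (F : Frm L)
    (h : ∀ (s : G') (V : Subgroup G'), orderOf s = 7 → Nat.card V = 4 → (∀ v ∈ V, v * v = 1) →
      (∀ v ∈ V, s * v = v * s) → False) (e : G ≃* G') : False := by
  obtain ⟨s, hs, hc⟩ := exists_seven F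
  apply h (e s) (F.V.map e.toMonoidHom)
  · rw [← hs]
    exact orderOf_injective e.toMonoidHom e.injective s
  · rw [← T0.card_V F]
    exact Subgroup.card_map_of_injective e.injective
  · rintro _ ⟨v, ⟨s, rfl⟩, rfl⟩
    change e (F.d 0 s) * e (F.d 0 s) = 1
    rw [← map_mul, F.d_mul_self, map_one]
  · rintro _ ⟨v, hv, rfl⟩
    change e s * e v = e v * e s
    rw [← map_mul, ← map_mul, hc v hv]

theorem final [Finite G] [IsSimpleGroup G] (H : Sit F) (hf : NoSwap.Full F)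
    (hA3 : ∀ e, NT F e → NE F e → e * e = 1 → ∃ g, g * e * g⁻¹ ∈ F.T0)
    (hB1 : ∀ T : Subgroup G, IsPGroup 2 T → F.T0 ≤ T → (∀ t ∈ T, NT F t) →
      (∀ T' : Subgroup G, IsPGroup 2 T' → T ≤ T' → (∀ t ∈ T', NT F t) → T' ≤ T) →
      ∃ S : Sylow 2 G, (S : Subgroup G) = T)
    (hB2 : ∀ t s, NT F t → ¬ NE F t → t * t = 1 → (∀ r, t * F.d 0 r = F.d 0 r * t) → s ≠ 0 →
      ∀ R : Subgroup G, IsPGroup 2 R → (∀ r ∈ R, r * t = t * r) →
        (∀ r ∈ R, r * F.d 0 s = F.d 0 s * r) → Nat.card R ≤ 32)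
    (hS : ∀ (u : ℕ → G) (P : Sylow 2 G), Cfsg.Agent.SylowL5.Setup.Emb (P : Subgroup G) u →
      Nonempty (G ≃* Matrix.SpecialLinearGroup (Fin 5) (ZMod 2)) ∨ Nonempty (G ≃* Cfsg.M24) ∨
        Cfsg.Spor.IsoHe G) : Cfsg.Spor.IsoHe G := by
  obtain ⟨Y, hY⟩ := exists_hyp H hf
  obtain ⟨Q, p1, p2, hO⟩ := exists_odd hY
  obtain ⟨T, f1, f2, D⟩ := exists_TD (⟨hY, hO⟩ : Exact.Set F Y Q p1 p2)
  obtain ⟨S, hST⟩ := hB1 T D.two D.T0_le (fun t ht => (D.le ht).1)
    (fun T' h1 h2 h3 => D.max h1 h2 h3)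
  have hns : ∀ g, NT F g → NE F g → NS F g := by
    intro g hg hE
    obtain ⟨e, e', l, m, hl, hm, h⟩ := exists_acts F hg hE.1 hE.2
    exact ⟨e, e', l, m, hl, hm, h⟩
  by_cases hsw : ∃ g, NT F g ∧ ¬ NS F g
  · exfalso
    obtain ⟨g, hg, hgS⟩ := hsw
    obtain ⟨t, ht, -, ht2, htA⟩ := D.exists_swap hg hgS
    have htE : ¬ NE F t := by
      intro hE
      obtain ⟨e, e', l, m, hl, hm, h⟩ := hns t (D.le ht).1 hE
      exact Types.not_both h htA hl
    have htV : ∀ s, t * F.d 0 s = F.d 0 s * t := by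
      intro s
      rw [← mul_inv_eq_iff_eq_mul, actS_d F htA]
      simp [dactS]
    have hTS : T = (S : Subgroup G) := hST.symm
    refine NoSwap.no_swap H hf hA3 S (fun x hx => (D.le (hST ▸ hx)).1) (t := t) (hTS ▸ ht) htE ht2
      htV (c0 := 1) (s0 := 1) one_ne_zero one_ne_zero (fun x hx => D.z_comm (hST ▸ hx)) ?_ ?_
    · intro e he hE he2 he1
      rw [hST] at he ⊢
      have h1 : e ∈ D.plus := ⟨he, hns e (D.le he).1 hE⟩
      refine (CentCode.card_cent D.emb h1 he2 he1).trans ?_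
      apply Subgroup.card_le_of_le
      exact inf_le_inf_right _ (fun x hx => hx.1)
    · intro s hs R hR h1 h2
      exact hB2 t s (D.le ht).1 htE ht2 htV hs R hR h1 h2
  · push Not at hsw
    have hplus : D.plus = T := by
      apply le_antisymm
      · exact fun x hx => hx.1
      · exact fun x hx => ⟨hx, hsw x (D.le hx).1⟩
    obtain ⟨u, hu⟩ : ∃ u, Cfsg.Agent.SylowL5.Setup.Emb D.plus u := ⟨_, D.emb⟩
    rw [hplus, ← hST] at hu
    rcases hS u S hu with ⟨⟨e⟩⟩ | ⟨⟨e⟩⟩ | h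
    · exact absurd (not_equiv F (fun s V h1 h2 h3 h4 => OrderSeven.not_sl52 s h1 V h2 h3 h4) e) id
    · exact absurd (not_equiv F (fun s V h1 h2 h3 h4 => NotM24.not_m24 s h1 V h2 h3 h4) e) id
    · exact h

end Cfsg.Agent.StdHeld.Final
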