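import Cfsg.Agent.Lib.FieldFour
import Cfsg.Agent.SylowL5.ExistsEmb

/-!
# S1747, end game (E1): codes for the Sylow 2-subgroup of type `L5(2)`

`cd` is the isomorphism from the codes of the unitriangular `5 × 5` matrices over `F_2` onto the model
`F4^4 x 2^2` of the Sylow 2-subgroup `T0 : <f1, f2>` in the coordinates of a frame.
-/

set_option autoImplicit false

namespace Cfsg.Agent.StdHeld.EmbCode

open Cfsg.Agent.Lib.FieldFour Cfsg.Agent.SylowL5.Setup Cfsg.Agent.SylowL5.ExistsEmb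

/-! ### The model -/

/-- coordinates of the elements `t a b c s * f1 ^ p * f2 ^ q` -/
abbrev Mo : Type := (F4 × F4 × F4 × F4) × (Bool × Bool)

/-- action of `f1 ^ p * f2 ^ q` -/
def act (p q : Bool) (m : F4 × F4 × F4 × F4) : F4 × F4 × F4 × F4 :=
  let m1 := cond p (m.1 * m.1, m.2.1, m.2.2.2 * m.2.2.2, m.2.2.1 * m.2.2.1) m
  cond q (m1.1, m1.2.1 * m1.2.1, m1.2.2.2, m1.2.2.1) m1

/-- product in `T0` -/
def tm (m n : F4 × F4 × F4 × F4) : F4 × F4 × F4 × F4 :=
  (m.1 + n.1, m.2.1 + n.2.1, m.2.2.1 + n.2.2.1 + n.1 * m.2.1,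
    m.2.2.2 + n.2.2.2 + n.1 * (m.2.1 * m.2.1))

/-- product of the model -/
def pm (m n : Mo) : Mo := (tm m.1 (act m.2.1 m.2.2 n.1), (xor m.2.1 n.2.1, xor m.2.2 n.2.2))

/-- bit as an element of `F4` -/
def bf (n k : ℕ) : F4 := cond (n.testBit k) F4.i F4.o

/-- coordinates of the matrix with code `n` -/
def cd (n : ℕ) : Mo :=
  let a := bf n 4 + bf n 1 * F4.w
  let b0 := bf n 6 + bf n 2 * F4.w
  let b := cond (n.testBit 3) (b0 * b0) b0
  let c0 := bf n 7 * F4.w + bf n 9 + (bf n 5 * F4.v + bf n 8 * F4.w)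
  let s0 := bf n 7 * F4.v + bf n 9 + (bf n 5 + bf n 8 * F4.w)
  ((a, b, cond (n.testBit 3) s0 c0 + a * b, cond (n.testBit 3) c0 s0 + a * (b * b)),
    (n.testBit 0, n.testBit 3))

theorem cd_check : (List.range 10).all (fun k => allb 1024 fun n =>
    decide (cd (mu (2 ^ k) n) = pm (cd (2 ^ k)) (cd n))) = true := by decide +kernel

theorem gen_check : allb 1024 (fun m => m == 0 || (List.range 10).any fun k =>
    Nat.blt (mu (2 ^ k) m) m) = true := by decide +kernel

/-- first bit of an element of `F4` in the basis `1, w` -/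
def b1 (a : F4) : Bool := match a with
  | F4.o => false
  | F4.i => true
  | F4.w => false
  | F4.v => true

/-- second bit -/
def b2 (a : F4) : Bool := match a with
  | F4.o => false
  | F4.i => false
  | F4.w => true
  | F4.v => true

/-- a bit at position `k` -/
def pb (b : Bool) (k : ℕ) : ℕ := cond b (2 ^ k) 0

/-- the inverse of `cd` -/
def dc (m : Mo) : ℕ :=
  let a := m.1.1
  let b := m.1.2.1
  let q := m.2.2
  let b0 := cond q (b * b) b
  let c1 := m.1.2.2.1 + a * b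
  let s1 := m.1.2.2.2 + a * (b * b)
  let c0 := cond q s1 c1
  let s0 := cond q c1 s1
  let e := c0 + s0
  let r := c0 + cond (b1 e) F4.w F4.o + cond (b2 e) F4.v F4.o
  pb m.2.1 0 + pb (b2 a) 1 + pb (b2 b0) 2 + pb q 3 + pb (b1 a) 4 + pb (b2 e) 5 + pb (b1 b0) 6 +
    pb (b1 e) 7 + pb (b2 r) 8 + pb (b1 r) 9

theorem dc_check : ∀ a b c s : F4, ∀ p q : Bool, dc ((a, b, c, s), (p, q)) < 1024 ∧
    cd (dc ((a, b, c, s), (p, q))) = ((a, b, c, s), (p, q)) := by decide +kernel

theorem dc_cd_check : allb 1024 (fun n => dc (cd n) == n) = true := by decide +kernel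

theorem cd_inj {m n : ℕ} (hm : m < 1024) (hn : n < 1024) (h : cd m = cd n) : m = n := by
  have h1 := of_allb dc_cd_check m hm
  have h2 := of_allb dc_cd_check n hn
  rw [beq_iff_eq] at h1 h2
  rw [← h1, ← h2, h]

theorem cd_mu {k n : ℕ} (hk : k < 10) (hn : n < 1024) :
    cd (mu (2 ^ k) n) = pm (cd (2 ^ k)) (cd n) := by
  have h1 := cd_check
  rw [List.all_eq_true] at h1
  exact of_decide_eq_true (of_allb (h1 k (List.mem_range.2 hk)) n hn)

theorem gen {m : ℕ} (hm : m < 1024) (h0 : m ≠ 0) : ∃ k < 10, mu (2 ^ k) m < m := by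
  have h1 := of_allb gen_check m hm
  rw [Bool.or_eq_true, beq_iff_eq, List.any_eq_true] at h1
  rcases h1 with h1 | ⟨k, hk, h2⟩
  · exact absurd h1 h0
  · exact ⟨k, List.mem_range.1 hk, by simpa using h2⟩

theorem mu_assoc {a b c : ℕ} (ha : a < 1024) (hb : b < 1024) (hc : c < 1024) :
    mu (mu a b) c = mu a (mu b c) := by
  apply csl_inj (mu_lt (mu_lt ha hb) hc) (mu_lt ha (mu_lt hb hc))
  rw [csl_mul, csl_mul, csl_mul, csl_mul, mul_assoc]

theorem csl_zero : csl 0 = 1 := by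
  apply Subtype.ext
  change cmat 0 = 1
  ext i j
  fin_cases i <;> fin_cases j <;> simp [cmat, bz]

theorem zero_mu {a : ℕ} (ha : a < 1024) : mu 0 a = a := by
  apply csl_inj (mu_lt (by norm_num) ha) ha
  rw [csl_mul, csl_zero, one_mul]

theorem mu_self_check : (List.range 10).all (fun k => mu (2 ^ k) (2 ^ k) == 0) = true := by
  decide +kernel

theorem mu_self {k : ℕ} (hk : k < 10) : mu (2 ^ k) (2 ^ k) = 0 := by
  have h1 := mu_self_check
  rw [List.all_eq_true] at h1
  exact beq_iff_eq.1 (h1 k (List.mem_range.2 hk))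

end Cfsg.Agent.StdHeld.EmbCode
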