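import Cfsg.Agent.Lib.FieldFour
import Cfsg.Agent.StandardComponent.HeldType.Frame
import Cfsg.Agent.StdHeld.EmbCode

/-!
# S1747, end game (E1): the Sylow 2-subgroup `T0 : <f1, f2>` is of type `L5(2)`

* `Crd G` : coordinates `x a`, `y b`, `d c s` on the group `T0` of order `256`;
* `emb` : `T0` extended by the two "field" involutions `f1`, `f2` is isomorphic to the group of unitriangular
  matrices (in the form of the structure `SylowL5.Setup.Emb`).
-/

set_option autoImplicit false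

namespace Cfsg.Agent.StdHeld.EmbT

open Cfsg.Agent.Lib.FieldFour Cfsg.Agent.SylowL5.Setup Cfsg.Agent.StdHeld.EmbCode
open Cfsg.Agent.StandardComponent.HeldType.Frame (Frm)

/-- Coordinates on a group of order `256` (the Sylow 2-subgroup of `2^2.L3(4)`). -/
structure Crd (G : Type*) [Group G] where
  x : F4 → G
  y : F4 → G
  d : F4 → F4 → G
  x_add : ∀ a a', x (a + a') = x a * x a'
  y_add : ∀ b b', y (b + b') = y b * y b'
  d_add : ∀ c c' s s', d (c + c') (s + s') = d c s * d c' s'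
  x_d : ∀ a c s, x a * d c s = d c s * x a
  y_d : ∀ b c s, y b * d c s = d c s * y b
  y_x : ∀ a b, y b * x a = x a * y b * d (a * b) (a * b ^ 2)
  inj : ∀ a b c s, x a * y b * d c s = 1 → a = 0 ∧ b = 0 ∧ c = 0 ∧ s = 0

/-- The coordinates of a frame. -/
def ofFrm {G : Type*} [Group G] {L : Subgroup G} (F : Frm L) : Crd G where
  x := F.x
  y := F.y
  d := F.d
  x_add := F.x_add
  y_add := F.y_add
  d_add := F.d_add
  x_d := F.x_d
  y_d := F.y_d
  y_x := F.y_x
  inj := F.inj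

namespace Crd

variable {G : Type*} [Group G] (F : Crd G)

theorem x_zero : F.x 0 = 1 := by
  have h := F.x_add 0 0
  rw [add_zero] at h
  exact left_eq_mul.1 h

theorem y_zero : F.y 0 = 1 := by
  have h := F.y_add 0 0
  rw [add_zero] at h
  exact left_eq_mul.1 h

theorem d_zero : F.d 0 0 = 1 := by
  have h := F.d_add 0 0 0 0
  rw [add_zero] at h
  exact left_eq_mul.1 h

theorem f4_add_self (a : F4) : a + a = 0 := by cases a <;> rfl

theorem d_mul_self (c s : F4) : F.d c s * F.d c s = 1 := by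
  rw [← F.d_add, f4_add_self, f4_add_self, F.d_zero]

/-- The general element of `T0`. -/
def t (a b c s : F4) : G := F.x a * F.y b * F.d c s

theorem t_def (a b c s : F4) : F.t a b c s = F.x a * F.y b * F.d c s := rfl

theorem t_zero : F.t 0 0 0 0 = 1 := by
  rw [t_def, F.x_zero, F.y_zero, F.d_zero, one_mul, one_mul]

theorem t_mul (a b c s a' b' c' s' : F4) :
    F.t a b c s * F.t a' b' c' s' =
      F.t (a + a') (b + b') (c + c' + a' * b) (s + s' + a' * b ^ 2) := by
  have e1 : F.t a b c s * F.t a' b' c' s' =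
      F.x a * (F.y b * F.x a') * F.y b' * (F.d c s * F.d c' s') := by
    simp only [t_def]
    have h1 := F.x_d a' c s
    have h2 := F.y_d b' c s
    calc F.x a * F.y b * F.d c s * (F.x a' * F.y b' * F.d c' s')
        = F.x a * F.y b * (F.d c s * F.x a') * F.y b' * F.d c' s' := by group
      _ = F.x a * F.y b * F.x a' * (F.d c s * F.y b') * F.d c' s' := by rw [← h1]; group
      _ = _ := by rw [← h2]; group
  rw [e1, F.y_x, ← F.d_add]
  have h3 := F.y_d b' (a' * b) (a' * b ^ 2)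
  calc F.x a * (F.x a' * F.y b * F.d (a' * b) (a' * b ^ 2)) * F.y b' * F.d (c + c') (s + s')
      = (F.x a * F.x a') * F.y b * (F.d (a' * b) (a' * b ^ 2) * F.y b') *
          F.d (c + c') (s + s') := by group
    _ = (F.x a * F.x a') * (F.y b * F.y b') *
          (F.d (a' * b) (a' * b ^ 2) * F.d (c + c') (s + s')) := by rw [← h3]; group
    _ = _ := by
      rw [← F.x_add, ← F.y_add, ← F.d_add, t_def]
      congr 2 <;> ring

theorem t_inj {a b c s a' b' c' s' : F4} (h : F.t a b c s = F.t a' b' c' s') :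
    a = a' ∧ b = b' ∧ c = c' ∧ s = s' := by
  have h1 : F.t a b c s * F.t a' b' (c' + a' * b') (s' + a' * b' ^ 2) = 1 := by
    rw [h, t_mul]
    have e1 : c' + (c' + a' * b') + a' * b' = 0 := by
      have := f4_add_self c'; have h2 := f4_add_self (a' * b')
      linear_combination this + h2
    have e2 : s' + (s' + a' * b' ^ 2) + a' * b' ^ 2 = 0 := by
      have := f4_add_self s'; have h2 := f4_add_self (a' * b' ^ 2)
      linear_combination this + h2
    rw [f4_add_self, f4_add_self, e1, e2, F.t_zero]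
  rw [t_mul] at h1
  obtain ⟨h2, h3, h4, h5⟩ := F.inj _ _ _ _ h1
  have key : ∀ p q : F4, p + q = 0 → p = q := by decide
  have ha := key _ _ h2
  have hb := key _ _ h3
  subst ha hb
  refine ⟨rfl, rfl, ?_, ?_⟩
  · apply key
    have := f4_add_self (a * b)
    linear_combination h4 - this
  · apply key
    have := f4_add_self (a * b ^ 2)
    linear_combination h5 - this

/-- the commutator relation -/
theorem d_eq (a b : F4) : F.d (a * b) (a * b ^ 2) = (F.x a * F.y b)⁻¹ * (F.y b * F.x a) := by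
  rw [F.y_x]; group

/-- how an element acting on the `x a`, `y b` acts on `d c s`. -/
theorem conj_d (g : G) (α β : F4 → F4) (γ : F4 → F4 → F4 × F4)
    (hx : ∀ a, g * F.x a * g⁻¹ = F.x (α a)) (hy : ∀ b, g * F.y b * g⁻¹ = F.y (β b))
    (hγ : ∀ a b, γ (a * b) (a * b ^ 2) = (α a * β b, α a * β b ^ 2))
    (hγ' : ∀ c c' s s', γ (c + c') (s + s') = γ c s + γ c' s') (c s : F4) :
    g * F.d c s * g⁻¹ = F.d (γ c s).1 (γ c s).2 := by
  have h1 : ∀ a b, g * F.d (a * b) (a * b ^ 2) * g⁻¹ =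
      F.d (γ (a * b) (a * b ^ 2)).1 (γ (a * b) (a * b ^ 2)).2 := by
    intro a b
    rw [hγ, F.d_eq (α a) (β b), F.d_eq a b, ← hx, ← hy]
    group
  have key : ∀ c s : F4, ∃ a b a' b' : F4, c = a * b + a' * b' ∧ s = a * b ^ 2 + a' * b' ^ 2 := by
    decide +kernel
  obtain ⟨a, b, a', b', rfl, rfl⟩ := key c s
  rw [hγ', Prod.fst_add, Prod.snd_add, F.d_add, F.d_add, ← h1, ← h1]
  group

end Crd

/-! ### The extension -/

/-- The two field involutions. -/
structure Fld {G : Type*} [Group G] (F : Crd G) (f1 f2 : G) : Prop where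
  sq1 : f1 * f1 = 1
  sq2 : f2 * f2 = 1
  comm : f1 * f2 = f2 * f1
  x1 : ∀ a, f1 * F.x a * f1⁻¹ = F.x (a ^ 2)
  y1 : ∀ b, f1 * F.y b * f1⁻¹ = F.y b
  x2 : ∀ a, f2 * F.x a * f2⁻¹ = F.x a
  y2 : ∀ b, f2 * F.y b * f2⁻¹ = F.y (b ^ 2)

section

variable {G : Type*} [Group G] {F : Crd G} {f1 f2 : G} (H : Fld F f1 f2)
include H

theorem Fld.d1 (c s : F4) : f1 * F.d c s * f1⁻¹ = F.d (s ^ 2) (c ^ 2) := by
  rw [F.conj_d f1 (fun a => a ^ 2) (fun b => b) (fun c s => (s ^ 2, c ^ 2)) H.x1 H.y1]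
  · decide +kernel
  · decide +kernel

theorem Fld.d2 (c s : F4) : f2 * F.d c s * f2⁻¹ = F.d s c := by
  rw [F.conj_d f2 (fun a => a) (fun b => b ^ 2) (fun c s => (s, c)) H.x2 H.y2]
  · decide +kernel
  · decide +kernel

theorem Fld.t1 (a b c s : F4) : f1 * F.t a b c s * f1⁻¹ = F.t (a ^ 2) b (s ^ 2) (c ^ 2) := by
  rw [F.t_def, F.t_def, ← H.x1, ← H.d1 c s]
  nth_rewrite 2 [← H.y1]
  group

theorem Fld.t2 (a b c s : F4) : f2 * F.t a b c s * f2⁻¹ = F.t a (b ^ 2) s c := by
  rw [F.t_def, F.t_def, ← H.y2, ← H.d2 c s]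
  nth_rewrite 2 [← H.x2]
  group

end

/-- the element `f1 ^ p * f2 ^ q` -/
def fe {G : Type*} [Group G] (f1 f2 : G) (p q : Bool) : G := cond p f1 1 * cond q f2 1

/-- general element of `T` -/
def tg {G : Type*} [Group G] (F : Crd G) (f1 f2 : G) (m : Mo) : G :=
  F.t m.1.1 m.1.2.1 m.1.2.2.1 m.1.2.2.2 * fe f1 f2 m.2.1 m.2.2

section

variable {G : Type*} [Group G] {F : Crd G} {f1 f2 : G} (H : Fld F f1 f2)
include H

theorem Fld.fe_mul (p q p' q' : Bool) :
    fe f1 f2 p q * fe f1 f2 p' q' = fe f1 f2 (xor p p') (xor q q') := by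
  have h1 := H.sq1
  have h2 := H.sq2
  have h3 : f2 * f1 = f1 * f2 := H.comm.symm
  have h4 : ∀ g, f2 * (f2 * g) = g := fun g => by rw [← mul_assoc, h2, one_mul]
  have h5 : ∀ g, f1 * (f1 * g) = g := fun g => by rw [← mul_assoc, h1, one_mul]
  have h6 : ∀ g, f2 * (f1 * g) = f1 * (f2 * g) := fun g => by
    rw [← mul_assoc, h3, mul_assoc]
  cases p <;> cases q <;> cases p' <;> cases q' <;> simp [fe, h1, h2, h3, h5, h6, mul_assoc]

theorem Fld.fe_conj (p q : Bool) (m : F4 × F4 × F4 × F4) :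
    fe f1 f2 p q * F.t m.1 m.2.1 m.2.2.1 m.2.2.2 * (fe f1 f2 p q)⁻¹ =
      F.t (act p q m).1 (act p q m).2.1 (act p q m).2.2.1 (act p q m).2.2.2 := by
  have key : ∀ z : F4, z * z = z ^ 2 := by decide
  cases p <;> cases q <;> simp only [fe, act, cond_true, cond_false, one_mul, mul_one, key]
  · simp
  · rw [H.t2]
  · rw [H.t1]
  · have e : f1 * f2 * F.t m.1 m.2.1 m.2.2.1 m.2.2.2 * (f1 * f2)⁻¹ =
        f1 * (f2 * F.t m.1 m.2.1 m.2.2.1 m.2.2.2 * f2⁻¹) * f1⁻¹ := by group
    rw [e, H.t2, H.t1]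

theorem Fld.tg_mul (m n : Mo) : tg F f1 f2 (pm m n) = tg F f1 f2 m * tg F f1 f2 n := by
  obtain ⟨⟨a, b, c, s⟩, p, q⟩ := m
  obtain ⟨n1, p', q'⟩ := n
  have h1 := H.fe_conj p q n1
  have h2 := H.fe_mul p q p' q'
  have h3 := F.t_mul a b c s (act p q n1).1 (act p q n1).2.1 (act p q n1).2.2.1
    (act p q n1).2.2.2
  have key : ∀ z : F4, z * z = z ^ 2 := by decide
  simp only [tg, pm, tm, key]
  rw [← h2, ← h3, ← h1]
  group

/-- `f1 ^ p * f2 ^ q` lies in `T0` only if it is `1`. -/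
theorem Fld.fe_not_mem (p q : Bool) (a b c s : F4) (h : fe f1 f2 p q = F.t a b c s) :
    p = false ∧ q = false := by
  -- the action of an element of `T0` on `x w` and `y w`
  have hx : fe f1 f2 p q * F.t F4.w 0 0 0 * (fe f1 f2 p q)⁻¹ = _ :=
    H.fe_conj p q (F4.w, 0, 0, 0)
  have hy : fe f1 f2 p q * F.t 0 F4.w 0 0 * (fe f1 f2 p q)⁻¹ = _ :=
    H.fe_conj p q (0, F4.w, 0, 0)
  rw [h, mul_inv_eq_iff_eq_mul, F.t_mul, F.t_mul] at hx hy
  obtain ⟨hx1, -, -, -⟩ := F.t_inj hx
  obtain ⟨-, hy1, -, -⟩ := F.t_inj hy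
  clear hx hy h
  revert hx1 hy1
  revert p q a b
  decide +kernel

theorem Fld.tg_inj {m n : Mo} (h : tg F f1 f2 m = tg F f1 f2 n) : m = n := by
  obtain ⟨⟨a, b, c, s⟩, p, q⟩ := m
  obtain ⟨⟨a', b', c', s'⟩, p', q'⟩ := n
  simp only [tg] at h
  have h1 : fe f1 f2 (xor p p') (xor q q') = (F.t a b c s)⁻¹ * F.t a' b' c' s' := by
    have h2 := H.fe_mul p' q' p' q'
    have h3 := H.fe_mul p q p' q'
    rw [Bool.xor_self, Bool.xor_self] at h2
    have h4 : fe f1 f2 false false = (1 : G) := by simp [fe]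
    rw [h4] at h2
    rw [← h3]
    calc fe f1 f2 p q * fe f1 f2 p' q'
        = (F.t a b c s)⁻¹ * (F.t a b c s * fe f1 f2 p q) * fe f1 f2 p' q' := by group
      _ = (F.t a b c s)⁻¹ * F.t a' b' c' s' * (fe f1 f2 p' q' * fe f1 f2 p' q') := by
        rw [h]; group
      _ = _ := by rw [h2, mul_one]
  have h5 : (F.t a b c s)⁻¹ = F.t a b (c + a * b) (s + a * b ^ 2) := by
    symm
    apply eq_inv_of_mul_eq_one_left
    rw [F.t_mul]
    have key : ∀ a b c : F4, a + a = 0 ∧ c + a * b + c + a * b = 0 ∧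
      c + a * b ^ 2 + c + a * b ^ 2 = 0 := by decide
    rw [(key a b c).1, (key b b c).1, (key a b c).2.1, (key a b s).2.2, F.t_zero]
  rw [h5, F.t_mul] at h1
  obtain ⟨h6, h7⟩ := H.fe_not_mem _ _ _ _ _ _ h1
  have hp : p = p' := by revert h6; cases p <;> cases p' <;> decide
  have hq : q = q' := by revert h7; cases q <;> cases q' <;> decide
  subst hp hq
  have h8 := F.t_inj (mul_right_cancel h)
  obtain ⟨rfl, rfl, rfl, rfl⟩ := h8
  rfl

/-- The group `T = T0 : <f1, f2>` is of type `L5(2)`. -/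
theorem Fld.emb (T : Subgroup G) (hT0 : ∀ a b c s, F.t a b c s ∈ T) (h1 : f1 ∈ T) (h2 : f2 ∈ T)
    (hcard : Nat.card T = 1024) : Emb T (fun n => tg F f1 f2 (cd n)) := by
  have hmem : ∀ m : Mo, tg F f1 f2 m ∈ T := by
    rintro ⟨⟨a, b, c, s⟩, p, q⟩
    refine T.mul_mem (hT0 _ _ _ _) (T.mul_mem ?_ ?_)
    · cases p
      · exact T.one_mem
      · exact h1
    · cases q
      · exact T.one_mem
      · exact h2
  have hmul : ∀ m, m < 1024 → ∀ n, n < 1024 →
      tg F f1 f2 (cd (mu m n)) = tg F f1 f2 (cd m) * tg F f1 f2 (cd n) := by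
    intro m
    induction m using Nat.strong_induction_on with
    | _ m ih =>
      intro hm n hn
      have hzero : tg F f1 f2 (cd 0) = 1 := by
        have e : cd 0 = ((0, 0, 0, 0), (false, false)) := by decide
        rw [e]
        simp [tg, fe, F.t_zero]
      by_cases h0 : m = 0
      · subst h0
        rw [zero_mu hn, hzero, one_mul]
      · obtain ⟨k, hk, hlt⟩ := gen hm h0
        have hk2 : 2 ^ k < 1024 := by
          calc 2 ^ k < 2 ^ 10 := Nat.pow_lt_pow_right (by norm_num) hk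
            _ = 1024 := by norm_num
        set m' := mu (2 ^ k) m with hm'
        have hm'2 : m' < 1024 := by omega
        have hmm : m = mu (2 ^ k) m' := by
          rw [hm', ← mu_assoc hk2 hk2 hm, mu_self hk, zero_mu hm]
        rw [hmm, mu_assoc hk2 hm'2 hn, cd_mu hk (mu_lt hm'2 hn), H.tg_mul, ih m' hlt hm'2 n hn,
          cd_mu hk hm'2, H.tg_mul, mul_assoc]
  refine ⟨fun ha hb => hmul _ ha _ hb, ?_, fun _ => hmem _, ?_⟩
  · intro a b ha hb h
    exact cd_inj ha hb (H.tg_inj h)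
  · intro g hg
    have : Finite T := Nat.finite_of_card_ne_zero (by omega)
    have hbij : Function.Bijective (fun n : Fin 1024 =>
        (⟨tg F f1 f2 (cd n), hmem _⟩ : T)) := by
      rw [Nat.bijective_iff_injective_and_card]
      refine ⟨?_, by rw [hcard, Nat.card_eq_fintype_card, Fintype.card_fin]⟩
      intro m n h
      exact Fin.ext (cd_inj m.2 n.2 (H.tg_inj (congrArg Subtype.val h)))
    obtain ⟨n, hn⟩ := hbij.2 ⟨g, hg⟩
    exact ⟨n, n.2, congrArg Subtype.val hn⟩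

end

end Cfsg.Agent.StdHeld.EmbT
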