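import Cfsg.Agent.StdHeld.Types
import Cfsg.Agent.StdHeld.EmbT
import Cfsg.Agent.ClassificationK.SylowConj

/-!
# S1747, end game: a complement of `T0` in a Sylow 2-subgroup of its normaliser

`Hyp F Y` : `Y` is a subgroup of odd order centralising `L`, normalised by `N(T0)`, the elements of trivial type are
in `T0 * Y`, all types without interchange occur.
`exists_odd` : there is a subgroup `Q ≤ N(T0)` of odd order containing `Y`, with elements `p1`, `p2` of types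
`(w, 1)`, `(1, w)`, such that every element `g` of `N(T0)` is `t * c` with `t ∈ T0` and `c` normalising `Q`.
-/

set_option autoImplicit false

namespace Cfsg.Agent.StdHeld.Compl

open Cfsg.Agent.Lib.FieldFour Cfsg.Agent.StandardComponent.HeldType.Frame
  Cfsg.Agent.StandardComponent.HeldType.T0 Cfsg.Agent.StandardComponent.HeldType.Act
  Cfsg.Agent.StandardComponent.HeldType.ActType Cfsg.Agent.StdHeld.Types

/-- A Sylow `p`-subgroup of `H` covers `H / M` if this is a `p`-group. -/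
theorem exists_cover {G : Type*} [Group G] [Finite G] {p : ℕ} [Fact p.Prime] (H M R : Subgroup G)
    (hn : ∀ h ∈ H, ∀ m ∈ M, h * m * h⁻¹ ∈ M) (hp : ∀ h ∈ H, ∃ k : ℕ, h ^ p ^ k ∈ M)
    (hR : R ≤ H) (hRp : IsPGroup p R) :
    ∃ P : Subgroup G, R ≤ P ∧ P ≤ H ∧ IsPGroup p P ∧
      (∀ R' : Subgroup G, R' ≤ H → IsPGroup p R' → Nat.card R' ≤ Nat.card P) ∧
      ∀ h ∈ H, ∃ q ∈ P, q⁻¹ * h ∈ M := by
  have hR' : IsPGroup p (R.subgroupOf H) := hRp.comap_subtype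
  obtain ⟨P, hP⟩ := hR'.exists_le_sylow
  set M' : Subgroup H := M.subgroupOf H with hM'
  have hM'n : M'.Normal := by
    constructor
    rintro ⟨m, hm⟩ hm2 ⟨h, hh⟩
    exact hn h hh m hm2
  have hsurj : Function.Surjective (QuotientGroup.mk' M') := QuotientGroup.mk'_surjective M'
  have hq : IsPGroup p (H ⧸ M') := by
    intro x
    obtain ⟨h, rfl⟩ := hsurj x
    obtain ⟨k, hk⟩ := hp h h.2
    refine ⟨k, ?_⟩
    rw [← map_pow]
    exact (QuotientGroup.eq_one_iff _).2 hk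
  have htop : ((P.mapSurjective hsurj : Sylow p (H ⧸ M')) : Subgroup (H ⧸ M')) = ⊤ := by
    have h1 : IsPGroup p (⊤ : Subgroup (H ⧸ M')) := hq.to_subgroup ⊤
    exact ((P.mapSurjective hsurj).3 h1 le_top).symm
  refine ⟨(P : Subgroup H).map H.subtype, ?_, ?_, P.2.map H.subtype, ?_, ?_⟩
  · intro r hr
    exact ⟨⟨r, hR hr⟩, hP hr, rfl⟩
  · rintro _ ⟨x, -, rfl⟩
    exact x.2
  · intro R1 hR1 hR1p
    have h1 : IsPGroup p (R1.subgroupOf H) := hR1p.comap_subtype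
    obtain ⟨P1, hP1⟩ := h1.exists_le_sylow
    calc Nat.card R1 = Nat.card (R1.subgroupOf H) :=
          (Nat.card_congr (Subgroup.subgroupOfEquivOfLe hR1).toEquiv).symm
      _ ≤ Nat.card P1 := Subgroup.card_le_of_le hP1
      _ = Nat.card P := Nat.card_congr (P1.equiv P).toEquiv
      _ = Nat.card ((P : Subgroup H).map H.subtype) :=
          (Subgroup.card_map_of_injective H.subtype_injective).symm
  · intro h hh
    have h1 : QuotientGroup.mk' M' ⟨h, hh⟩ ∈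
        ((P.mapSurjective hsurj : Sylow p (H ⧸ M')) : Subgroup (H ⧸ M')) := by
      rw [htop]; exact Subgroup.mem_top _
    obtain ⟨q, hq1, hq2⟩ := h1
    refine ⟨q, ⟨q, hq1, rfl⟩, ?_⟩
    have h2 := (QuotientGroup.eq (s := M')).1 hq2
    exact h2

/-- Frattini argument. -/
theorem exists_norm {G : Type*} [Group G] [Finite G] {p : ℕ} [Fact p.Prime] (N P : Subgroup G)
    (hPN : P ≤ N) (hPp : IsPGroup p P)
    (hmax : ∀ R' : Subgroup G, R' ≤ N → IsPGroup p R' → Nat.card R' ≤ Nat.card P) {g : G}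
    (hg : ∀ n ∈ N, g * n * g⁻¹ ∈ N) : ∃ n ∈ N, ∀ q ∈ P, n * g * q * (n * g)⁻¹ ∈ P := by
  have h1 : P.map (MulAut.conj g).toMonoidHom ≤ N := by
    rintro _ ⟨x, hx, rfl⟩
    exact hg x (hPN hx)
  obtain ⟨c, hc⟩ := Cfsg.Agent.ClassificationK.SylowConj.exists_conj_le_of_max (C := N) (p := p)
    ((P.map (MulAut.conj g).toMonoidHom).subgroupOf N) (P.subgroupOf N)
    (hPp.map _).comap_subtype hPp.comap_subtype (fun R hR => by
      have h2 := hmax (R.map N.subtype) (by rintro _ ⟨x, -, rfl⟩; exact x.2) (hR.map _)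
      rw [Subgroup.card_map_of_injective N.subtype_injective] at h2
      rwa [Nat.card_congr (Subgroup.subgroupOfEquivOfLe hPN).toEquiv])
  refine ⟨c, c.2, fun q hq => ?_⟩
  have h3 := hc ⟨g * q * g⁻¹, h1 ⟨q, hq, rfl⟩⟩ ⟨q, hq, rfl⟩
  have h4 : (c : G) * (g * q * g⁻¹) * (c : G)⁻¹ ∈ P := h3
  have e : (c : G) * g * q * (c * g)⁻¹ = (c : G) * (g * q * g⁻¹) * (c : G)⁻¹ := by group
  rw [e]
  exact h4

variable {G : Type*} [Group G] {L : Subgroup G} (F : Frm L)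

/-- Hypotheses on `N(T0)`. -/
structure Hyp (Y : Subgroup G) : Prop where
  odd : Odd (Nat.card Y)
  commT : ∀ {y t}, y ∈ Y → t ∈ F.T0 → y * t = t * y
  nrm : ∀ g, NT F g → ∀ y ∈ Y, g * y * g⁻¹ ∈ Y
  ker : ∀ g, NT F g → Acts F g false false 1 1 → ∃ t ∈ F.T0, t⁻¹ * g ∈ Y
  gam : ∀ e e' l m, l ≠ 0 → m ≠ 0 → ∃ g, NT F g ∧ Acts F g e e' l m

variable {F} {Y : Subgroup G}

namespace Hyp

variable (H : Hyp F Y)
include H

theorem Y_le : Y ≤ MM F := fun _ hy =>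
  ⟨nt_of_cent fun _ ht => H.commT hy ht, acts_of_cent F fun _ ht => H.commT hy ht⟩

/-- a `p`-element-like argument: `t * y` with `t ∈ T0` commuting with `y ∈ Y`. -/
theorem T0_inf_Y [Finite G] {g : G} (h1 : g ∈ F.T0) (h2 : g ∈ Y) : g = 1 := by
  have h3 : orderOf g ∣ Nat.card Y := by
    have := orderOf_dvd_natCard (⟨g, h2⟩ : Y)
    rwa [Subgroup.orderOf_mk] at this
  obtain ⟨k, hk⟩ := (isPGroup_T0 F) ⟨g, h1⟩
  have h4 : g ^ 2 ^ k = 1 := congrArg Subtype.val hk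
  have h5 : orderOf g ∣ 2 ^ k := orderOf_dvd_of_pow_eq_one h4
  have h6 : Nat.Coprime (2 ^ k) (Nat.card Y) :=
    Nat.Coprime.pow_left _ (Nat.coprime_two_left.2 H.odd)
  have h7 : orderOf g ∣ 1 := by
    rw [← Nat.coprime_iff_gcd_eq_one.1 h6]
    exact Nat.dvd_gcd h5 h3
  exact orderOf_eq_one_iff.1 (Nat.dvd_one.1 h7)

/-- a 2-element of trivial type is in `T0` -/
theorem mem_T0_of_two [Finite G] {g : G} (hg : g ∈ MM F) {k : ℕ} (hk : g ^ 2 ^ k = 1) :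
    g ∈ F.T0 := by
  obtain ⟨t, ht, hy⟩ := H.ker g hg.1 hg.2
  set y := t⁻¹ * g with hydef
  have hgy : g = t * y := by rw [hydef]; group
  have hc : Commute t y := (H.commT hy ht).symm
  rw [hgy, hc.mul_pow] at hk
  have h1 : y ^ 2 ^ k ∈ F.T0 := by
    have : y ^ 2 ^ k = (t ^ 2 ^ k)⁻¹ := by
      rw [eq_inv_iff_mul_eq_one]
      rw [← (hc.pow_pow (2 ^ k) (2 ^ k)).eq]
      exact hk
    rw [this]
    exact F.T0.inv_mem (F.T0.pow_mem ht _)
  have h2 := H.T0_inf_Y h1 (Y.pow_mem hy _)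
  have h3 : orderOf y ∣ 2 ^ k := orderOf_dvd_of_pow_eq_one h2
  have h4 : orderOf y ∣ Nat.card Y := by
    have := orderOf_dvd_natCard (⟨y, hy⟩ : Y)
    rwa [Subgroup.orderOf_mk] at this
  have h6 : Nat.Coprime (2 ^ k) (Nat.card Y) :=
    Nat.Coprime.pow_left _ (Nat.coprime_two_left.2 H.odd)
  have h7 : orderOf y ∣ 1 := by
    rw [← Nat.coprime_iff_gcd_eq_one.1 h6]
    exact Nat.dvd_gcd h3 h4
  rw [orderOf_eq_one_iff.1 (Nat.dvd_one.1 h7), mul_one] at hgy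
  rwa [hgy]

end Hyp

/-- The outcome of the Frattini argument. -/
structure OddGp (F : Frm L) (Y Q : Subgroup G) (p1 p2 : G) : Prop where
  p1_mem : p1 ∈ Q
  p2_mem : p2 ∈ Q
  p1_act : Acts F p1 false false F4.w 1
  p2_act : Acts F p2 false false 1 F4.w
  Y_le : Y ≤ Q
  le : ∀ q ∈ Q, NT F q
  disj : ∀ q ∈ Q, q ∈ F.T0 → q = 1
  frat : ∀ g, NT F g → ∃ t ∈ F.T0, ∀ q ∈ Q, (t⁻¹ * g) * q * (t⁻¹ * g)⁻¹ ∈ Q

theorem exists_odd [Finite G] (H : Hyp F Y) : ∃ Q p1 p2, OddGp F Y Q p1 p2 := by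
  have : Fact (Nat.Prime 3) := ⟨by norm_num⟩
  obtain ⟨P, -, hPN, hP3, hmax, hcov⟩ := exists_cover (p := 3) (NN F) (MM F) ⊥
    (fun h hh m hm => conj_MM F hh.1 hm) (fun h hh => ⟨1, NN_cube F hh⟩) bot_le
    IsPGroup.of_bot
  -- the group `Q = P Y`
  have hPY : ∀ p ∈ P, ∀ y ∈ Y, p * y * p⁻¹ ∈ Y := fun p hp y hy => H.nrm p (hPN hp).1 y hy
  let Q : Subgroup G :=
    { carrier := {g | ∃ p ∈ P, ∃ y ∈ Y, g = p * y}
      one_mem' := ⟨1, P.one_mem, 1, Y.one_mem, by group⟩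
      mul_mem' := by
        rintro _ _ ⟨p, hp, y, hy, rfl⟩ ⟨p', hp', y', hy', rfl⟩
        refine ⟨p * p', P.mul_mem hp hp', p'⁻¹ * y * p'⁻¹⁻¹ * y',
          Y.mul_mem (hPY _ (P.inv_mem hp') _ hy) hy', by group⟩
      inv_mem' := by
        rintro _ ⟨p, hp, y, hy, rfl⟩
        exact ⟨p⁻¹, P.inv_mem hp, p * y⁻¹ * p⁻¹, hPY _ hp _ (Y.inv_mem hy), by group⟩ }
  have hQ : ∀ {g}, g ∈ Q ↔ ∃ p ∈ P, ∃ y ∈ Y, g = p * y := Iff.rfl
  have hPQ : P ≤ Q := fun p hp => hQ.2 ⟨p, hp, 1, Y.one_mem, (mul_one p).symm⟩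
  have hYQ : Y ≤ Q := fun y hy => hQ.2 ⟨1, P.one_mem, y, hy, (one_mul y).symm⟩
  -- the elements of type `(w, 1)`, `(1, w)`
  have hty : ∀ l m, l ≠ 0 → m ≠ 0 → ∃ p ∈ P, Acts F p false false l m := by
    intro l m hl hm
    obtain ⟨g, hg, hg2⟩ := H.gam false false l m hl hm
    obtain ⟨q, hq, hq2⟩ := hcov g ⟨hg, l, m, hl, hm, hg2⟩
    refine ⟨q, hq, ?_⟩
    have h1 := acts_mul F hg2 ((MM F).inv_mem hq2).2
    have e : g * (q⁻¹ * g)⁻¹ = q := by group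
    have key : ∀ l, sm false l 1 = l := by decide
    rwa [e, key, key, Bool.xor_false] at h1
  obtain ⟨p1, hp1, hp1'⟩ := hty F4.w 1 (by decide) one_ne_zero
  obtain ⟨p2, hp2, hp2'⟩ := hty 1 F4.w one_ne_zero (by decide)
  refine ⟨Q, p1, p2, hPQ hp1, hPQ hp2, hp1', hp2', hYQ, ?_, ?_, ?_⟩
  · rintro _ ⟨p, hp, y, hy, rfl⟩
    exact (hPN hp).1.mul (H.Y_le hy).1
  · rintro _ ⟨p, hp, y, hy, rfl⟩ ht
    -- `p = t * y⁻¹` with commuting factors
    set t := p * y with htdef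
    have hc : Commute t y⁻¹ := (H.commT (Y.inv_mem hy) ht).symm
    have hp' : p = t * y⁻¹ := by rw [htdef]; group
    obtain ⟨k, hk⟩ := hP3 ⟨p, hp⟩
    have hk2 : p ^ 3 ^ k = 1 := congrArg Subtype.val hk
    rw [hp', hc.mul_pow] at hk2
    have h1 : t ^ 3 ^ k ∈ Y := by
      rw [eq_inv_of_mul_eq_one_left hk2]
      exact Y.inv_mem (Y.pow_mem (Y.inv_mem hy) _)
    have h2 := H.T0_inf_Y (F.T0.pow_mem ht _) h1
    have h3 : orderOf t ∣ 3 ^ k := orderOf_dvd_of_pow_eq_one h2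
    obtain ⟨j, hj⟩ := (isPGroup_T0 F) ⟨t, ht⟩
    have h4 : t ^ 2 ^ j = 1 := congrArg Subtype.val hj
    have h5 : orderOf t ∣ 2 ^ j := orderOf_dvd_of_pow_eq_one h4
    have h6 : Nat.Coprime (2 ^ j) (3 ^ k) := Nat.Coprime.pow _ _ (by norm_num)
    have h7 : orderOf t ∣ 1 := by
      rw [← Nat.coprime_iff_gcd_eq_one.1 h6]
      exact Nat.dvd_gcd h5 h3
    exact orderOf_eq_one_iff.1 (Nat.dvd_one.1 h7)
  · intro g hg
    obtain ⟨n, hn, hnP⟩ := exists_norm (p := 3) (NN F) P hPN hP3 hmax (g := g)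
      (fun n hn => conj_NN F hg hn)
    -- `n⁻¹ = q * m`, `m = t * y`
    obtain ⟨q, hq, hq2⟩ := hcov n⁻¹ ((NN F).inv_mem hn)
    obtain ⟨t, ht, hty⟩ := H.ker _ hq2.1 hq2.2
    set y := t⁻¹ * (q⁻¹ * n⁻¹) with hydef
    have hqX : NT F q := (hPN hq).1
    refine ⟨q * t * q⁻¹, hqX.conj_mem ht, ?_⟩
    have e : (q * t * q⁻¹)⁻¹ * g = q * y * (n * g) := by rw [hydef]; group
    rw [e]
    have hcQ : ∀ r ∈ Q, (n * g) * r * (n * g)⁻¹ ∈ Q := by
      rintro _ ⟨p, hp, y', hy', rfl⟩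
      have hng : NT F (n * g) := hn.1.mul hg
      refine hQ.2 ⟨_, hnP p hp, _, H.nrm _ hng y' hy', by group⟩
    intro r hr
    have h1 := hcQ r hr
    have h2 : q * y ∈ Q := Q.mul_mem (hPQ hq) (hYQ hty)
    have h3 := Q.mul_mem (Q.mul_mem h2 h1) (Q.inv_mem h2)
    have e2 : q * y * (n * g) * r * (q * y * (n * g))⁻¹ =
        q * y * ((n * g) * r * (n * g)⁻¹) * (q * y)⁻¹ := by group
    rw [e2]
    exact h3

end Cfsg.Agent.StdHeld.Compl
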