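import Cfsg.Agent.StdHeld.Compl

/-!
# S1747, end game: exact coordinates

With `OddGp F Y Q p1 p2`, the new coordinates `x' a ∈ x a * D0` commuting with `p2`, `y' b ∈ y b * D0` commuting
with `p1` are transformed by the elements of `N(T0) ∩ N(Q)` exactly as prescribed by their types.
-/

set_option autoImplicit false

namespace Cfsg.Agent.StdHeld.Exact

open Cfsg.Agent.Lib.FieldFour Cfsg.Agent.StandardComponent.HeldType.Frame
  Cfsg.Agent.StandardComponent.HeldType.T0 Cfsg.Agent.StandardComponent.HeldType.Act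
  Cfsg.Agent.StandardComponent.HeldType.ActType Cfsg.Agent.StdHeld.Types
  Cfsg.Agent.StdHeld.Compl Cfsg.Agent.StdHeld.EmbT

variable {G : Type*} [Group G] {L : Subgroup G} {F : Frm L} {Y Q : Subgroup G} {p1 p2 : G}

/-- `g` normalises `Q` -/
def NQ (Q : Subgroup G) (g : G) : Prop := ∀ q, q ∈ Q ↔ g * q * g⁻¹ ∈ Q

theorem NQ.of_le [Finite G] {g : G} (h : ∀ q ∈ Q, g * q * g⁻¹ ∈ Q) : NQ Q g := by
  have h1 : Q.map (MulAut.conj g).toMonoidHom ≤ Q := by
    rintro _ ⟨x, hx, rfl⟩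
    exact h x hx
  have h2 : Q.map (MulAut.conj g).toMonoidHom = Q := by
    apply Subgroup.eq_of_le_of_card_ge h1
    rw [Subgroup.card_map_of_injective (MulAut.conj g).injective]
  intro q
  refine ⟨h q, fun hq => ?_⟩
  rw [← h2] at hq
  obtain ⟨x, hx, hx2⟩ := hq
  have h3 : g * x * g⁻¹ = g * q * g⁻¹ := hx2
  have h4 : x = q := by simpa using h3
  rwa [← h4]

theorem NQ.one : NQ Q (1 : G) := fun q => by simp

theorem NQ.mul {g h : G} (hg : NQ Q g) (hh : NQ Q h) : NQ Q (g * h) := fun x => by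
  rw [hh x, hg (h * x * h⁻¹)]
  have : g * (h * x * h⁻¹) * g⁻¹ = g * h * x * (g * h)⁻¹ := by group
  rw [this]

theorem NQ.inv {g : G} (hg : NQ Q g) : NQ Q g⁻¹ := fun x => by
  rw [hg (g⁻¹ * x * g⁻¹⁻¹)]
  have : g * (g⁻¹ * x * g⁻¹⁻¹) * g⁻¹ = x := by group
  rw [this]

/-- what is used: the two structures together -/
structure Set (F : Frm L) (Y Q : Subgroup G) (p1 p2 : G) : Prop where
  H : Hyp F Y
  O : OddGp F Y Q p1 p2

variable (S : Set F Y Q p1 p2)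
include S

theorem Set.frat [Finite G] {g : G} (hg : NT F g) : ∃ t ∈ F.T0, NQ Q (t⁻¹ * g) := by
  obtain ⟨t, ht, h⟩ := S.O.frat g hg
  exact ⟨t, ht, NQ.of_le h⟩

/-- elements of `Q` of trivial type are in `Y`. -/
theorem Set.mem_Y {q : G} (hq : q ∈ Q) (h : Acts F q false false 1 1) : q ∈ Y := by
  obtain ⟨t, ht, hy⟩ := S.H.ker q (S.O.le q hq) h
  have h1 : t ∈ Q := by
    have e : t = q * (t⁻¹ * q)⁻¹ := by group
    rw [e]
    exact Q.mul_mem hq (Q.inv_mem (S.O.Y_le hy))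
  rw [S.O.disj t h1 ht] at hy
  simpa using hy

/-- elements of `T0` normalising `Q` are trivial. -/
theorem Set.eq_one_of_T0 {g : G} (hg : g ∈ F.T0) (hQ : NQ Q g) : g = 1 := by
  have h1 : ∀ q ∈ Q, g * q = q * g := by
    intro q hq
    have h2 : g * q * g⁻¹ * q⁻¹ ∈ Q := Q.mul_mem ((hQ q).1 hq) (Q.inv_mem hq)
    have h3 : g * q * g⁻¹ * q⁻¹ ∈ F.T0 := by
      have e : g * q * g⁻¹ * q⁻¹ = g * (q * g⁻¹ * q⁻¹) := by group
      rw [e]
      exact F.T0.mul_mem hg ((S.O.le q hq).conj_mem (F.T0.inv_mem hg))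
    have h4 := S.O.disj _ h2 h3
    have h5 : g * q * g⁻¹ = q := mul_inv_eq_one.1 h4
    rw [mul_inv_eq_iff_eq_mul] at h5
    exact h5
  obtain ⟨a, b, c, s, rfl⟩ := hg
  have h2 := h1 p1 S.O.p1_mem
  have h3 := h1 p2 S.O.p2_mem
  -- modulo `D0`
  have h4 : p1 * F.t a b c s * p1⁻¹ = F.t a b c s := by
    rw [mul_inv_eq_iff_eq_mul]; exact h2.symm
  have h5 : p2 * F.t a b c s * p2⁻¹ = F.t a b c s := by
    rw [mul_inv_eq_iff_eq_mul]; exact h3.symm
  have key1 : ∀ z : F4, F4.w * z = z → z = 0 := by decide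
  have ha : a = 0 := by
    rw [F.conj_t] at h4
    obtain ⟨c1, s1, h6⟩ := S.O.p1_act.1 a
    obtain ⟨c2, s2, h7⟩ := S.O.p1_act.2 b
    rw [h6, h7, act_d F S.O.p1_act, F.xd_eq_t, F.yd_eq_t, F.d_eq_t, F.t_mul, F.t_mul] at h4
    have h8 := (F.t_inj h4).1
    rw [add_zero, add_zero] at h8
    exact key1 a h8
  have hb : b = 0 := by
    rw [F.conj_t] at h5
    obtain ⟨c1, s1, h6⟩ := S.O.p2_act.1 a
    obtain ⟨c2, s2, h7⟩ := S.O.p2_act.2 b
    rw [h6, h7, act_d F S.O.p2_act, F.xd_eq_t, F.yd_eq_t, F.d_eq_t, F.t_mul, F.t_mul] at h5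
    have h8 := (F.t_inj h5).2.1
    rw [zero_add, add_zero] at h8
    exact key1 b h8
  subst ha hb
  rw [← F.d_eq_t, act_d F S.O.p1_act] at h4
  obtain ⟨h6, h7⟩ := d_inj F h4
  have key2 : ∀ c s : F4, (dact false false F4.w 1 c s).1 = c →
      (dact false false F4.w 1 c s).2 = s → c = 0 ∧ s = 0 := by decide
  obtain ⟨rfl, rfl⟩ := key2 c s h6 h7
  exact F.t_zero

/-- 2-elements of trivial type normalising `Q` are trivial. -/
theorem Set.eq_one_of_two [Finite G] {g : G} (hg : g ∈ MM F) (hQ : NQ Q g) {k : ℕ}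
    (hk : g ^ 2 ^ k = 1) : g = 1 :=
  S.eq_one_of_T0 (S.H.mem_T0_of_two hg hk) hQ

/-! ### The new coordinates -/

theorem Set.exists_x (a : F4) : ∃ c s, p2 * (F.x a * F.d c s) = F.x a * F.d c s * p2 := by
  obtain ⟨c, s, h⟩ := S.O.p2_act.1 a
  refine ⟨F4.w * c, F4.v * s, ?_⟩
  rw [← mul_inv_eq_iff_eq_mul]
  have e : p2 * (F.x a * F.d (F4.w * c) (F4.v * s)) * p2⁻¹ =
      (p2 * F.x a * p2⁻¹) * (p2 * F.d (F4.w * c) (F4.v * s) * p2⁻¹) := by group
  have key : ∀ a c s : F4, sm false 1 a = a ∧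
      c + (dact false false 1 F4.w (F4.w * c) (F4.v * s)).1 = F4.w * c ∧
      s + (dact false false 1 F4.w (F4.w * c) (F4.v * s)).2 = F4.v * s := by decide
  rw [e, h, act_d F S.O.p2_act, mul_assoc, ← F.d_add, (key a c s).1, (key a c s).2.1,
    (key a c s).2.2]

theorem Set.exists_y (b : F4) : ∃ c s, p1 * (F.y b * F.d c s) = F.y b * F.d c s * p1 := by
  obtain ⟨c, s, h⟩ := S.O.p1_act.2 b
  refine ⟨F4.w * c, F4.w * s, ?_⟩
  rw [← mul_inv_eq_iff_eq_mul]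
  have e : p1 * (F.y b * F.d (F4.w * c) (F4.w * s)) * p1⁻¹ =
      (p1 * F.y b * p1⁻¹) * (p1 * F.d (F4.w * c) (F4.w * s) * p1⁻¹) := by group
  have key : ∀ a c s : F4, sm false 1 a = a ∧
      c + (dact false false F4.w 1 (F4.w * c) (F4.w * s)).1 = F4.w * c ∧
      s + (dact false false F4.w 1 (F4.w * c) (F4.w * s)).2 = F4.w * s := by decide
  rw [e, h, act_d F S.O.p1_act, mul_assoc, ← F.d_add, (key b c s).1, (key b c s).2.1,
    (key b c s).2.2]

theorem Set.d_eq_zero2 {c s : F4} (h : p2 * F.d c s = F.d c s * p2) : c = 0 ∧ s = 0 := by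
  rw [← mul_inv_eq_iff_eq_mul, act_d F S.O.p2_act] at h
  obtain ⟨h6, h7⟩ := d_inj F h
  clear h
  revert h6 h7
  revert c s
  decide

theorem Set.d_eq_zero1 {c s : F4} (h : p1 * F.d c s = F.d c s * p1) : c = 0 ∧ s = 0 := by
  rw [← mul_inv_eq_iff_eq_mul, act_d F S.O.p1_act] at h
  obtain ⟨h6, h7⟩ := d_inj F h
  clear h
  revert h6 h7
  revert c s
  decide

theorem Set.x_unique {a : F4} {c s c' s' : F4} (h : p2 * (F.x a * F.d c s) = F.x a * F.d c s * p2)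
    (h' : p2 * (F.x a * F.d c' s') = F.x a * F.d c' s' * p2) : c = c' ∧ s = s' := by
  have h1 : p2 * ((F.x a * F.d c s)⁻¹ * (F.x a * F.d c' s')) =
      (F.x a * F.d c s)⁻¹ * (F.x a * F.d c' s') * p2 := by
    have h2 : Commute p2 (F.x a * F.d c s) := h
    have h3 : Commute p2 (F.x a * F.d c' s') := h'
    exact (h2.inv_right.mul_right h3).eq
  have e : (F.x a * F.d c s)⁻¹ * (F.x a * F.d c' s') = F.d (c + c') (s + s') := by
    rw [F.d_add, mul_inv_rev, F.d_inv]; group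
  rw [e] at h1
  obtain ⟨h2, h3⟩ := S.d_eq_zero2 h1
  have key : ∀ p q : F4, p + q = 0 → p = q := by decide
  exact ⟨key _ _ h2, key _ _ h3⟩

theorem Set.y_unique {a : F4} {c s c' s' : F4} (h : p1 * (F.y a * F.d c s) = F.y a * F.d c s * p1)
    (h' : p1 * (F.y a * F.d c' s') = F.y a * F.d c' s' * p1) : c = c' ∧ s = s' := by
  have h1 : p1 * ((F.y a * F.d c s)⁻¹ * (F.y a * F.d c' s')) =
      (F.y a * F.d c s)⁻¹ * (F.y a * F.d c' s') * p1 := by
    have h2 : Commute p1 (F.y a * F.d c s) := h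
    have h3 : Commute p1 (F.y a * F.d c' s') := h'
    exact (h2.inv_right.mul_right h3).eq
  have e : (F.y a * F.d c s)⁻¹ * (F.y a * F.d c' s') = F.d (c + c') (s + s') := by
    rw [F.d_add, mul_inv_rev, F.d_inv]; group
  rw [e] at h1
  obtain ⟨h2, h3⟩ := S.d_eq_zero1 h1
  have key : ∀ p q : F4, p + q = 0 → p = q := by decide
  exact ⟨key _ _ h2, key _ _ h3⟩

/-- the new `x a` -/
noncomputable def Set.xn (a : F4) : G :=
  F.x a * F.d (S.exists_x a).choose (S.exists_x a).choose_spec.choose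

theorem Set.xn_eq (a : F4) : ∃ c s, S.xn a = F.x a * F.d c s := ⟨_, _, rfl⟩

theorem Set.xn_comm (a : F4) : p2 * S.xn a = S.xn a * p2 :=
  (S.exists_x a).choose_spec.choose_spec

/-- the new `y b` -/
noncomputable def Set.yn (a : F4) : G :=
  F.y a * F.d (S.exists_y a).choose (S.exists_y a).choose_spec.choose

theorem Set.yn_eq (a : F4) : ∃ c s, S.yn a = F.y a * F.d c s := ⟨_, _, rfl⟩

theorem Set.yn_comm (a : F4) : p1 * S.yn a = S.yn a * p1 :=
  (S.exists_y a).choose_spec.choose_spec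

theorem Set.eq_xn {a c s : F4} (h : p2 * (F.x a * F.d c s) = F.x a * F.d c s * p2) :
    F.x a * F.d c s = S.xn a := by
  obtain ⟨c', s', h1⟩ := S.xn_eq a
  have h2 := S.xn_comm a
  rw [h1] at h2 ⊢
  obtain ⟨rfl, rfl⟩ := S.x_unique h h2
  rfl

theorem Set.eq_yn {a c s : F4} (h : p1 * (F.y a * F.d c s) = F.y a * F.d c s * p1) :
    F.y a * F.d c s = S.yn a := by
  obtain ⟨c', s', h1⟩ := S.yn_eq a
  have h2 := S.yn_comm a
  rw [h1] at h2 ⊢
  obtain ⟨rfl, rfl⟩ := S.y_unique h h2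
  rfl

/-- the new coordinates -/
noncomputable def Set.crd : Crd G where
  x := S.xn
  y := S.yn
  d := F.d
  x_add a a' := by
    obtain ⟨c, s, h1⟩ := S.xn_eq a
    obtain ⟨c', s', h2⟩ := S.xn_eq a'
    have h3 : Commute p2 (S.xn a * S.xn a') :=
      Commute.mul_right (S.xn_comm a) (S.xn_comm a')
    have e : S.xn a * S.xn a' = F.x (a + a') * F.d (c + c') (s + s') := by
      rw [h1, h2, F.x_add, F.d_add]
      have := F.x_d a' c s
      calc F.x a * F.d c s * (F.x a' * F.d c' s')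
          = F.x a * (F.d c s * F.x a') * F.d c' s' := by group
        _ = _ := by rw [← this]; group
    rw [e] at h3 ⊢
    exact (S.eq_xn h3.eq).symm
  y_add a a' := by
    obtain ⟨c, s, h1⟩ := S.yn_eq a
    obtain ⟨c', s', h2⟩ := S.yn_eq a'
    have h3 : Commute p1 (S.yn a * S.yn a') :=
      Commute.mul_right (S.yn_comm a) (S.yn_comm a')
    have e : S.yn a * S.yn a' = F.y (a + a') * F.d (c + c') (s + s') := by
      rw [h1, h2, F.y_add, F.d_add]
      have := F.y_d a' c s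
      calc F.y a * F.d c s * (F.y a' * F.d c' s')
          = F.y a * (F.d c s * F.y a') * F.d c' s' := by group
        _ = _ := by rw [← this]; group
    rw [e] at h3 ⊢
    exact (S.eq_yn h3.eq).symm
  d_add := F.d_add
  x_d a c s := by
    obtain ⟨c', s', h1⟩ := S.xn_eq a
    rw [h1, mul_assoc, F.d_comm c' s' c s, ← mul_assoc, F.x_d, mul_assoc]
  y_d a c s := by
    obtain ⟨c', s', h1⟩ := S.yn_eq a
    rw [h1, mul_assoc, F.d_comm c' s' c s, ← mul_assoc, F.y_d, mul_assoc]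
  y_x a b := by
    obtain ⟨c, s, h1⟩ := S.xn_eq a
    obtain ⟨c', s', h2⟩ := S.yn_eq b
    rw [h1, h2, F.xd_eq_t, F.yd_eq_t, F.d_eq_t, F.t_mul, F.t_mul, F.t_mul]
    congr 1 <;> ring
  inj a b c s h := by
    obtain ⟨c1, s1, h1⟩ := S.xn_eq a
    obtain ⟨c2, s2, h2⟩ := S.yn_eq b
    rw [h1, h2, F.xd_eq_t, F.yd_eq_t, F.d_eq_t, F.t_mul, F.t_mul, ← F.t_zero] at h
    obtain ⟨h3, h4, h5, h6⟩ := F.t_inj h
    rw [add_zero, add_zero] at h3
    rw [zero_add, add_zero] at h4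
    subst h3 h4
    have hx0 : S.xn 0 = 1 := by
      have h7 : p2 * (F.x 0 * F.d 0 0) = F.x 0 * F.d 0 0 * p2 := by
        rw [F.x_zero, F.d_zero]; group
      rw [← S.eq_xn h7, F.x_zero, F.d_zero, mul_one]
    have hy0 : S.yn 0 = 1 := by
      have h7 : p1 * (F.y 0 * F.d 0 0) = F.y 0 * F.d 0 0 * p1 := by
        rw [F.y_zero, F.d_zero]; group
      rw [← S.eq_yn h7, F.y_zero, F.d_zero, mul_one]
    rw [hx0, F.x_zero, one_mul, ← F.d_zero] at h1
    rw [hy0, F.y_zero, one_mul, ← F.d_zero] at h2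
    obtain ⟨rfl, rfl⟩ := d_inj F h1
    obtain ⟨rfl, rfl⟩ := d_inj F h2
    refine ⟨rfl, rfl, ?_, ?_⟩
    · simpa using h5
    · simpa using h6

/-! ### Exactness -/

/-- elements of `Q` of type `(1, m)` commute with the new `x a`. -/
theorem Set.comm_xn {q : G} (hq : q ∈ Q) {m : F4} (hm : m ≠ 0) (h : Acts F q false false 1 m)
    (a : F4) : q * S.xn a = S.xn a * q := by
  have key : ∀ m : F4, m ≠ 0 → ∃ k : ℕ, sm false m (F4.w ^ k) = 1 := by
    intro m hm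
    cases m
    · exact absurd rfl hm
    · exact ⟨0, by decide⟩
    · exact ⟨2, by decide⟩
    · exact ⟨1, by decide⟩
  obtain ⟨k, hk⟩ := key m hm
  have h1 := acts_mul F h (acts_pow F S.O.p2_act k)
  rw [hk, one_pow, Bool.xor_false, show sm false 1 1 = 1 by decide] at h1
  have h2 := S.mem_Y (Q.mul_mem hq (Q.pow_mem S.O.p2_mem k)) h1
  have hxT : S.xn a ∈ F.T0 := by
    obtain ⟨c, s, h3⟩ := S.xn_eq a
    rw [h3, F.xd_eq_t]
    exact ⟨_, _, _, _, rfl⟩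
  have h3 : Commute (q * p2 ^ k) (S.xn a) := S.H.commT h2 hxT
  have h4 : Commute p2 (S.xn a) := S.xn_comm a
  have h5 : Commute (q * p2 ^ k * (p2 ^ k)⁻¹) (S.xn a) := h3.mul_left (h4.pow_left k).inv_left
  rw [mul_inv_cancel_right] at h5
  exact h5.eq

theorem Set.comm_yn {q : G} (hq : q ∈ Q) {l : F4} (hl : l ≠ 0) (h : Acts F q false false l 1)
    (a : F4) : q * S.yn a = S.yn a * q := by
  have key : ∀ m : F4, m ≠ 0 → ∃ k : ℕ, sm false m (F4.w ^ k) = 1 := by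
    intro m hm
    cases m
    · exact absurd rfl hm
    · exact ⟨0, by decide⟩
    · exact ⟨2, by decide⟩
    · exact ⟨1, by decide⟩
  obtain ⟨k, hk⟩ := key l hl
  have h1 := acts_mul F h (acts_pow F S.O.p1_act k)
  rw [hk, one_pow, Bool.xor_false, show sm false 1 1 = 1 by decide] at h1
  have h2 := S.mem_Y (Q.mul_mem hq (Q.pow_mem S.O.p1_mem k)) h1
  have hxT : S.yn a ∈ F.T0 := by
    obtain ⟨c, s, h3⟩ := S.yn_eq a
    rw [h3, F.yd_eq_t]
    exact ⟨_, _, _, _, rfl⟩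
  have h3 : Commute (q * p1 ^ k) (S.yn a) := S.H.commT h2 hxT
  have h4 : Commute p1 (S.yn a) := S.yn_comm a
  have h5 : Commute (q * p1 ^ k * (p1 ^ k)⁻¹) (S.yn a) := h3.mul_left (h4.pow_left k).inv_left
  rw [mul_inv_cancel_right] at h5
  exact h5.eq

theorem Set.acts_xn {g : G} (hg : NT F g) (hQ : NQ Q g) {e e' : Bool} {l m : F4} (hm : m ≠ 0)
    (h : Acts F g e e' l m) (a : F4) : g * S.xn a * g⁻¹ = S.xn (sm e l a) := by
  obtain ⟨c, s, h1⟩ := S.xn_eq a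
  obtain ⟨c', s', h2⟩ := conj_xd F h a c s
  rw [← h1] at h2
  rw [h2]
  apply S.eq_xn
  rw [← h2]
  obtain ⟨l', m', hl', hm', h3, h4, h5⟩ := acts_inv hg h
  have hq : g⁻¹ * p2 * g ∈ Q := by
    have := (hQ.inv p2).1 S.O.p2_mem
    rwa [inv_inv] at this
  have h6 := acts_mul F (acts_mul F h5 S.O.p2_act) h
  rw [Bool.xor_false, Bool.xor_false, Bool.xor_self, Bool.xor_self] at h6
  have key : ∀ (e : Bool) (l l' : F4), sm e l l' = 1 → sm e (sm e l' 1) l = 1 := by decide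
  rw [key e l l' h3] at h6
  have h7 := S.comm_xn hq (sm_ne_zero _ _ _ (sm_ne_zero _ _ _ hm' (by decide)) hm) h6 a
  calc p2 * (g * S.xn a * g⁻¹) = g * (g⁻¹ * p2 * g * S.xn a) * g⁻¹ := by group
    _ = g * (S.xn a * (g⁻¹ * p2 * g)) * g⁻¹ := by rw [h7]
    _ = _ := by group

theorem Set.acts_yn {g : G} (hg : NT F g) (hQ : NQ Q g) {e e' : Bool} {l m : F4} (hl : l ≠ 0)
    (h : Acts F g e e' l m) (a : F4) : g * S.yn a * g⁻¹ = S.yn (sm e' m a) := by
  obtain ⟨c, s, h1⟩ := S.yn_eq a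
  obtain ⟨c', s', h2⟩ := conj_yd F h a c s
  rw [← h1] at h2
  rw [h2]
  apply S.eq_yn
  rw [← h2]
  obtain ⟨l', m', hl', hm', h3, h4, h5⟩ := acts_inv hg h
  have hq : g⁻¹ * p1 * g ∈ Q := by
    have := (hQ.inv p1).1 S.O.p1_mem
    rwa [inv_inv] at this
  have h6 := acts_mul F (acts_mul F h5 S.O.p1_act) h
  rw [Bool.xor_false, Bool.xor_false, Bool.xor_self, Bool.xor_self] at h6
  have key : ∀ (e : Bool) (l l' : F4), sm e l l' = 1 → sm e (sm e l' 1) l = 1 := by decide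
  rw [key e' m m' h4] at h6
  have h7 := S.comm_yn hq (sm_ne_zero _ _ _ (sm_ne_zero _ _ _ hl' (by decide)) hl) h6 a
  calc p1 * (g * S.yn a * g⁻¹) = g * (g⁻¹ * p1 * g * S.yn a) * g⁻¹ := by group
    _ = g * (S.yn a * (g⁻¹ * p1 * g)) * g⁻¹ := by rw [h7]
    _ = _ := by group

theorem Set.actsS_xn {g : G} (hg : NT F g) (hQ : NQ Q g) {e e' : Bool} {l m : F4} (hm : m ≠ 0)
    (h : ActsS F g e e' l m) (a : F4) : g * S.xn a * g⁻¹ = S.yn (sm e l a) := by
  obtain ⟨c, s, h1⟩ := S.xn_eq a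
  obtain ⟨c', s', h2⟩ := conjS_xd F h a c s
  rw [← h1] at h2
  rw [h2]
  apply S.eq_yn
  rw [← h2]
  obtain ⟨l', m', hl', hm', h3, h4, h5⟩ := actsS_inv hg h
  have hq : g⁻¹ * p1 * g ∈ Q := by
    have := (hQ.inv p1).1 S.O.p1_mem
    rwa [inv_inv] at this
  have h6 := actsS_mulS F (actsS_mul F h5 S.O.p1_act) h
  rw [Bool.xor_false, Bool.xor_false, Bool.xor_self, Bool.xor_self] at h6
  have key : ∀ (e : Bool) (l l' : F4), sm e l l' = 1 → sm e (sm e l' 1) l = 1 := by decide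
  rw [key e l m' h4] at h6
  have h7 := S.comm_xn hq (sm_ne_zero _ _ _ (sm_ne_zero _ _ _ hl' (by decide)) hm) h6 a
  calc p1 * (g * S.xn a * g⁻¹) = g * (g⁻¹ * p1 * g * S.xn a) * g⁻¹ := by group
    _ = g * (S.xn a * (g⁻¹ * p1 * g)) * g⁻¹ := by rw [h7]
    _ = _ := by group

theorem Set.actsS_yn {g : G} (hg : NT F g) (hQ : NQ Q g) {e e' : Bool} {l m : F4} (hl : l ≠ 0)
    (h : ActsS F g e e' l m) (a : F4) : g * S.yn a * g⁻¹ = S.xn (sm e' m a) := by
  obtain ⟨c, s, h1⟩ := S.yn_eq a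
  obtain ⟨c', s', h2⟩ := conjS_yd F h a c s
  rw [← h1] at h2
  rw [h2]
  apply S.eq_xn
  rw [← h2]
  obtain ⟨l', m', hl', hm', h3, h4, h5⟩ := actsS_inv hg h
  have hq : g⁻¹ * p2 * g ∈ Q := by
    have := (hQ.inv p2).1 S.O.p2_mem
    rwa [inv_inv] at this
  have h6 := actsS_mulS F (actsS_mul F h5 S.O.p2_act) h
  rw [Bool.xor_false, Bool.xor_false, Bool.xor_self, Bool.xor_self] at h6
  have key : ∀ (e : Bool) (l l' : F4), sm e l l' = 1 → sm e (sm e l' 1) l = 1 := by decide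
  rw [key e' m l' h3] at h6
  have h7 := S.comm_yn hq (sm_ne_zero _ _ _ (sm_ne_zero _ _ _ hm' (by decide)) hl) h6 a
  calc p2 * (g * S.yn a * g⁻¹) = g * (g⁻¹ * p2 * g * S.yn a) * g⁻¹ := by group
    _ = g * (S.yn a * (g⁻¹ * p2 * g)) * g⁻¹ := by rw [h7]
    _ = _ := by group

end Cfsg.Agent.StdHeld.Exact
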