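import Cfsg.Agent.StdHeld.Exact

/-!
# S1747, end game: the Sylow 2-subgroup of `N(T0)`
-/

set_option autoImplicit false

namespace Cfsg.Agent.StdHeld.Struct

open Cfsg.Agent.Lib.FieldFour Cfsg.Agent.StandardComponent.HeldType.Frame
  Cfsg.Agent.StandardComponent.HeldType.T0 Cfsg.Agent.StandardComponent.HeldType.Act
  Cfsg.Agent.StandardComponent.HeldType.ActType Cfsg.Agent.StdHeld.Types
  Cfsg.Agent.StdHeld.Compl Cfsg.Agent.StdHeld.Exact Cfsg.Agent.StdHeld.EmbT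
  Cfsg.Agent.StdHeld.EmbCode Cfsg.Agent.SylowL5.Setup

variable {G : Type*} [Group G] {L : Subgroup G} {F : Frm L} {Y Q : Subgroup G} {p1 p2 : G}

/-- `g` does not interchange `E1` and `E2`, in the form used here: it has a type without interchange. -/
def NS (F : Frm L) (g : G) : Prop := ∃ e e' l m, l ≠ 0 ∧ m ≠ 0 ∧ Acts F g e e' l m

/-- The Sylow 2-subgroup `T` of the group of types `l = m = 1`. -/
structure TD (F : Frm L) (Y Q : Subgroup G) (p1 p2 : G) (T : Subgroup G) (f1 f2 : G) : Prop where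
  set : Set F Y Q p1 p2
  T0_le : F.T0 ≤ T
  le : T ≤ HH F
  two : IsPGroup 2 T
  cov : ∀ h ∈ HH F, ∃ q ∈ T, q⁻¹ * h ∈ MM F
  f1_mem : f1 ∈ T
  f2_mem : f2 ∈ T
  f1_q : NQ Q f1
  f2_q : NQ Q f2
  f1_act : Acts F f1 true false 1 1
  f2_act : Acts F f2 false true 1 1

theorem acts_of_mem {c g : G} (h : c⁻¹ * g ∈ MM F) {e e' : Bool} {l m : F4}
    (hg : Acts F g e e' l m) : Acts F c e e' l m := by
  have h1 := acts_mul F hg ((MM F).inv_mem h).2
  have key : ∀ (e : Bool) (l : F4), sm e l 1 = l := by decide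
  have e1 : g * (c⁻¹ * g)⁻¹ = c := by group
  rwa [e1, key, key, Bool.xor_false, Bool.xor_false] at h1

theorem actsS_of_mem {c g : G} (h : c⁻¹ * g ∈ MM F) {e e' : Bool} {l m : F4}
    (hg : ActsS F g e e' l m) : ActsS F c e e' l m := by
  have h1 := actsS_mul F hg ((MM F).inv_mem h).2
  have key : ∀ (e : Bool) (l : F4), sm e l 1 = l := by decide
  have e1 : g * (c⁻¹ * g)⁻¹ = c := by group
  rwa [e1, key, key, Bool.xor_false, Bool.xor_false] at h1

/-- elements of a 2-group containing `T0`, up to `T0`, normalise `Q`. -/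
theorem exists_c [Finite G] (S : Set F Y Q p1 p2) {T : Subgroup G} (hT0 : F.T0 ≤ T) {g : G}
    (hg : g ∈ T) (hN : NT F g) : ∃ t ∈ F.T0, ∃ c ∈ T, NQ Q c ∧ NT F c ∧ g = t * c := by
  obtain ⟨t, ht, hq⟩ := S.frat hN
  exact ⟨t, ht, t⁻¹ * g, T.mul_mem (T.inv_mem (hT0 ht)) hg, hq, (NT.of_mem ht).inv.mul hN,
    by group⟩

theorem cover_c [Finite G] (S : Set F Y Q p1 p2) {T : Subgroup G} (hT0 : F.T0 ≤ T)
    (hle : T ≤ HH F) (cov : ∀ h ∈ HH F, ∃ q ∈ T, q⁻¹ * h ∈ MM F) {g : G} (hg : g ∈ HH F) :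
    ∃ c ∈ T, NQ Q c ∧ c⁻¹ * g ∈ MM F := by
  obtain ⟨q, hq, hq2⟩ := cov g hg
  obtain ⟨t, ht, c, hc, hcQ, -, rfl⟩ := exists_c S hT0 hq (hle hq).1
  refine ⟨c, hc, hcQ, ?_⟩
  have e : c⁻¹ * g = (c⁻¹ * t * c⁻¹⁻¹) * ((t * c)⁻¹ * g) := by group
  rw [e]
  exact (MM F).mul_mem (conj_MM F (hle hc).1.inv (T0_le_MM F ht)) hq2

theorem exists_TD [Finite G] (S : Set F Y Q p1 p2) : ∃ T f1 f2, TD F Y Q p1 p2 T f1 f2 := by
  have : Fact (Nat.Prime 2) := ⟨Nat.prime_two⟩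
  obtain ⟨T, hT0, hle, h2, -, hcov⟩ := exists_cover (p := 2) (HH F) (MM F) F.T0
    (fun h hh m hm => conj_MM F hh.1 hm) (fun h hh => ⟨2, HH_four F hh⟩)
    ((T0_le_MM F).trans (MM_le_HH F)) (isPGroup_T0 F)
  obtain ⟨g1, hg1, hg1'⟩ := S.H.gam true false 1 1 one_ne_zero one_ne_zero
  obtain ⟨g2, hg2, hg2'⟩ := S.H.gam false true 1 1 one_ne_zero one_ne_zero
  obtain ⟨f1, hf1, hf1q, hf1m⟩ := cover_c S hT0 hle hcov (g := g1) ⟨hg1, true, false, Or.inl hg1'⟩
  obtain ⟨f2, hf2, hf2q, hf2m⟩ := cover_c S hT0 hle hcov (g := g2) ⟨hg2, false, true, Or.inl hg2'⟩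
  exact ⟨T, f1, f2, S, hT0, hle, h2, hcov, hf1, hf2, hf1q, hf2q, acts_of_mem hf1m hg1',
    acts_of_mem hf2m hg2'⟩

/-! ### `T0` in the new coordinates -/

theorem crd_t (S : Set F Y Q p1 p2) (a b c s : F4) : ∃ c' s', S.crd.t a b c s = F.t a b c' s' := by
  obtain ⟨c1, s1, h1⟩ := S.xn_eq a
  obtain ⟨c2, s2, h2⟩ := S.yn_eq b
  have h3 : S.crd.t a b c s = S.xn a * S.yn b * F.d c s := rfl
  rw [h3, h1, h2, F.xd_eq_t, F.yd_eq_t, F.d_eq_t, F.t_mul, F.t_mul]
  simp only [add_zero, zero_add]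
  exact ⟨_, _, rfl⟩

theorem crd_t_mem (S : Set F Y Q p1 p2) (a b c s : F4) : S.crd.t a b c s ∈ F.T0 := by
  obtain ⟨c', s', h⟩ := crd_t S a b c s
  rw [h]
  exact ⟨_, _, _, _, rfl⟩

theorem exists_crd_t (S : Set F Y Q p1 p2) {g : G} (hg : g ∈ F.T0) :
    ∃ a b c s, g = S.crd.t a b c s := by
  obtain ⟨a, b, c, s, rfl⟩ := hg
  obtain ⟨c', s', h⟩ := crd_t S a b 0 0
  refine ⟨a, b, c + c', s + s', ?_⟩
  have h1 : S.crd.t a b (c + c') (s + s') = S.crd.t a b 0 0 * F.d (c + c') (s + s') := by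
    have h2 : S.crd.t a b (c + c') (s + s') = S.xn a * S.yn b * F.d (c + c') (s + s') := rfl
    have h3 : S.crd.t a b 0 0 = S.xn a * S.yn b * F.d 0 0 := rfl
    rw [h2, h3, F.d_zero, mul_one]
  rw [h1, h, F.d_eq_t, F.t_mul]
  have key : ∀ c c' : F4, c' + (c + c') = c := by decide
  simp only [add_zero, zero_mul]
  rw [key, key]

/-! ### Elements of `T` normalising `Q` -/

namespace TD

variable {T : Subgroup G} {f1 f2 : G} (D : TD F Y Q p1 p2 T f1 f2)
include D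

theorem pow_two {g : G} (hg : g ∈ T) : ∃ k, g ^ 2 ^ k = 1 := by
  obtain ⟨k, hk⟩ := D.two ⟨g, hg⟩
  exact ⟨k, congrArg Subtype.val hk⟩

theorem eq_one [Finite G] {g : G} (hg : g ∈ T) (hQ : NQ Q g) (h : Acts F g false false 1 1) :
    g = 1 := by
  obtain ⟨k, hk⟩ := D.pow_two hg
  exact D.set.eq_one_of_two ⟨(D.le hg).1, h⟩ hQ hk

theorem fld [Finite G] : Fld D.set.crd f1 f2 := by
  have n1 := (D.le D.f1_mem).1
  have n2 := (D.le D.f2_mem).1
  have key : ∀ e, sm e 1 1 = 1 := by decide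
  have s1 : f1 * f1 = 1 := by
    apply D.eq_one (T.mul_mem D.f1_mem D.f1_mem) (D.f1_q.mul D.f1_q)
    have := acts_mul F D.f1_act D.f1_act
    rwa [key, key, Bool.xor_self, Bool.xor_self] at this
  have s2 : f2 * f2 = 1 := by
    apply D.eq_one (T.mul_mem D.f2_mem D.f2_mem) (D.f2_q.mul D.f2_q)
    have := acts_mul F D.f2_act D.f2_act
    rwa [key, key, Bool.xor_self, Bool.xor_self] at this
  refine ⟨s1, s2, ?_, ?_, ?_, ?_, ?_⟩
  · have h1 : (f1 * f2) * (f1 * f2) = 1 := by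
      have hm := T.mul_mem D.f1_mem D.f2_mem
      apply D.eq_one (T.mul_mem hm hm) ((D.f1_q.mul D.f2_q).mul (D.f1_q.mul D.f2_q))
      have h2 := acts_mul F D.f1_act D.f2_act
      have := acts_mul F h2 h2
      rwa [key, key, key, key, Bool.xor_self, Bool.xor_self] at this
    have e1 : f1⁻¹ = f1 := inv_eq_of_mul_eq_one_left s1
    have e2 : f2⁻¹ = f2 := inv_eq_of_mul_eq_one_left s2
    have h3 : f1 * f2 = (f1 * f2)⁻¹ := (inv_eq_of_mul_eq_one_left h1).symm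
    rw [mul_inv_rev, e1, e2] at h3
    exact h3
  · intro a
    have := D.set.acts_xn n1 D.f1_q one_ne_zero D.f1_act a
    rw [sm_true_one] at this
    exact this
  · intro a
    have := D.set.acts_yn n1 D.f1_q one_ne_zero D.f1_act a
    rw [sm_false_one] at this
    exact this
  · intro a
    have := D.set.acts_xn n2 D.f2_q one_ne_zero D.f2_act a
    rw [sm_false_one] at this
    exact this
  · intro a
    have := D.set.acts_yn n2 D.f2_q one_ne_zero D.f2_act a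
    rw [sm_true_one] at this
    exact this

theorem fe_mem (p q : Bool) : fe f1 f2 p q ∈ T := by
  unfold fe
  cases p <;> cases q <;> simp [T.mul_mem, D.f1_mem, D.f2_mem]

theorem fe_q (p q : Bool) : NQ Q (fe f1 f2 p q) := by
  have h1 : NQ Q (cond p f1 1) := by
    cases p
    · exact NQ.one
    · exact D.f1_q
  have h2 : NQ Q (cond q f2 1) := by
    cases q
    · exact NQ.one
    · exact D.f2_q
  exact h1.mul h2

theorem fe_act (p q : Bool) : Acts F (fe f1 f2 p q) p q 1 1 := by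
  have key : ∀ e, sm e 1 1 = 1 := by decide
  have h1 : Acts F (cond p f1 1) p false 1 1 := by
    cases p
    · exact acts_one F
    · exact D.f1_act
  have h2 : Acts F (cond q f2 1) false q 1 1 := by
    cases q
    · exact acts_one F
    · exact D.f2_act
  have := acts_mul F h1 h2
  rwa [key, key, Bool.xor_false, Bool.false_xor] at this

/-- a 2-element of `N(T0) ∩ N(Q)` without interchange, generating with `f1`, `f2` a 2-group, is in
`<f1, f2>`. -/
theorem mem_of_ns [Finite G] {T' : Subgroup G} (hT' : IsPGroup 2 T') (hTT : T ≤ T') {c : G}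
    (hc : c ∈ T') (hN : NT F c) (hQ : NQ Q c) {e e' : Bool} {l m : F4}
    (h : Acts F c e e' l m) : c = fe f1 f2 e e' := by
  have key : ∀ (e : Bool) (l : F4), sm e l 1 = l := by decide
  have h1 := acts_mul F h (D.fe_act e e')
  rw [key, key, Bool.xor_self, Bool.xor_self] at h1
  have h2 : c * fe f1 f2 e e' ∈ T' := T'.mul_mem hc (hTT (D.fe_mem e e'))
  obtain ⟨k, hk⟩ := hT' ⟨_, h2⟩
  have hk' : (c * fe f1 f2 e e') ^ 2 ^ k = 1 := congrArg Subtype.val hk
  have h3 := acts_pow F h1 (2 ^ k)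
  rw [hk'] at h3
  obtain ⟨-, -, h4, h5⟩ := acts_unique F (acts_one F) h3 one_ne_zero one_ne_zero
  rw [eq_one_of_pow_two_pow h4.symm, eq_one_of_pow_two_pow h5.symm] at h1
  have h6 : NT F (c * fe f1 f2 e e') := hN.mul (D.le (D.fe_mem e e')).1
  have h7 := D.set.eq_one_of_two ⟨h6, h1⟩ (hQ.mul (D.fe_q e e')) hk'
  have h8 : fe f1 f2 e e' * fe f1 f2 e e' = 1 := by
    have := D.fld.fe_mul e e' e e'
    rw [Bool.xor_self, Bool.xor_self] at this
    rw [this]; simp [fe]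
  calc c = c * (fe f1 f2 e e' * fe f1 f2 e e') := by rw [h8, mul_one]
    _ = (c * fe f1 f2 e e') * fe f1 f2 e e' := by group
    _ = _ := by rw [h7, one_mul]

theorem ns_of_mem {g : G} (hg : g ∈ T) (h : NS F g) : ∃ e e', Acts F g e e' 1 1 := by
  obtain ⟨e, e', l, m, hl, -, h1⟩ := h
  obtain ⟨-, e1, e1', h2 | h2⟩ := D.le hg
  · exact ⟨_, _, h2⟩
  · exact absurd (not_both h1 h2 hl) id

/-- the elements of `T` without interchange are the `tg m`. -/
theorem exists_tg [Finite G] {g : G} (hg : g ∈ T) (h : NS F g) :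
    ∃ m : Mo, g = tg D.set.crd f1 f2 m := by
  obtain ⟨t, ht, c, hc, hcQ, hcN, rfl⟩ := exists_c D.set D.T0_le hg (D.le hg).1
  obtain ⟨e, e', h1⟩ := D.ns_of_mem hg h
  have h2 : Acts F c e e' 1 1 := by
    have h3 := acts_mul F (acts_T0 F (F.T0.inv_mem ht)) h1
    have key : ∀ (e : Bool) (l : F4), sm false 1 l = l := by decide
    rwa [inv_mul_cancel_left, key e, Bool.false_xor, Bool.false_xor] at h3
  have h3 := D.mem_of_ns D.two le_rfl hc hcN hcQ h2
  obtain ⟨a, b, c', s, rfl⟩ := exists_crd_t D.set ht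
  exact ⟨((a, b, c', s), (e, e')), by rw [h3]; rfl⟩

theorem tg_mem (m : Mo) : tg D.set.crd f1 f2 m ∈ T :=
  T.mul_mem (D.T0_le (crd_t_mem D.set _ _ _ _)) (D.fe_mem _ _)

theorem tg_ns (m : Mo) : NS F (tg D.set.crd f1 f2 m) := by
  refine ⟨m.2.1, m.2.2, 1, 1, one_ne_zero, one_ne_zero, ?_⟩
  have h3 := acts_mul F (acts_T0 F (crd_t_mem D.set m.1.1 m.1.2.1 m.1.2.2.1 m.1.2.2.2))
    (D.fe_act m.2.1 m.2.2)
  have key : sm false 1 1 = 1 := by decide
  rwa [key, Bool.false_xor, Bool.false_xor] at h3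

/-- the subgroup of the elements of `T` without interchange -/
def plus (_D : TD F Y Q p1 p2 T f1 f2) : Subgroup G where
  carrier := {g | g ∈ T ∧ NS F g}
  one_mem' := ⟨T.one_mem, false, false, 1, 1, one_ne_zero, one_ne_zero, acts_one F⟩
  mul_mem' := by
    rintro a b ⟨ha, e, e', l, m, hl, hm, h⟩ ⟨hb, e1, e1', l1, m1, hl1, hm1, h1⟩
    exact ⟨T.mul_mem ha hb, _, _, _, _, sm_ne_zero _ _ _ hl hl1, sm_ne_zero _ _ _ hm hm1,
      acts_mul F h h1⟩
  inv_mem' := by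
    rintro a ⟨ha, e, e', l, m, hl, hm, h⟩
    obtain ⟨l', m', hl', hm', -, -, h2⟩ := acts_inv (_D.le ha).1 h
    exact ⟨T.inv_mem ha, _, _, _, _, hl', hm', h2⟩

theorem mem_plus {g : G} : g ∈ D.plus ↔ g ∈ T ∧ NS F g := Iff.rfl

theorem card_plus [Finite G] : Nat.card D.plus = 1024 := by
  have e : Function.Bijective (fun m : Mo =>
      (⟨tg D.set.crd f1 f2 m, D.tg_mem m, D.tg_ns m⟩ : D.plus)) := by
    constructor
    · intro m n h
      exact D.fld.tg_inj (congrArg Subtype.val h)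
    · rintro ⟨g, hg, hg2⟩
      obtain ⟨m, rfl⟩ := D.exists_tg hg hg2
      exact ⟨m, rfl⟩
  rw [← Nat.card_congr (Equiv.ofBijective _ e), Nat.card_eq_fintype_card]
  simp only [Fintype.card_prod, F4.card, Fintype.card_bool]

/-- `T⁺` is of type `L5(2)`. -/
theorem emb [Finite G] : Emb D.plus (fun n => tg D.set.crd f1 f2 (cd n)) := by
  apply D.fld.emb D.plus
  · intro a b c s
    refine ⟨D.T0_le (crd_t_mem D.set _ _ _ _), ?_⟩
    exact ⟨false, false, 1, 1, one_ne_zero, one_ne_zero, acts_T0 F (crd_t_mem D.set _ _ _ _)⟩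
  · exact ⟨D.f1_mem, true, false, 1, 1, one_ne_zero, one_ne_zero, D.f1_act⟩
  · exact ⟨D.f2_mem, false, true, 1, 1, one_ne_zero, one_ne_zero, D.f2_act⟩
  · exact D.card_plus

/-- `z = d(1,1)` is central in `T`. -/
theorem z_comm {g : G} (hg : g ∈ T) : g * F.d 1 1 = F.d 1 1 * g := by
  rw [← mul_inv_eq_iff_eq_mul]
  obtain ⟨-, e, e', h | h⟩ := D.le hg
  · rw [act_d F h]
    have key : ∀ e e', dact e e' 1 1 1 1 = (1, 1) := by decide
    rw [key]
  · rw [actS_d F h]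
    have key : ∀ e e', dactS e e' 1 1 1 1 = (1, 1) := by decide
    rw [key]

/-- if some element of `N(T0)` interchanges `E1` and `E2`, there is an exact unitary involution in `T`. -/
theorem exists_swap [Finite G] {g : G} (hg : NT F g) (hgS : ¬ NS F g) :
    ∃ t ∈ T, NQ Q t ∧ t * t = 1 ∧ ActsS F t true true 1 1 := by
  obtain ⟨e, e', l, m, hl, hm, h⟩ := (act_cases F hg).resolve_left hgS
  obtain ⟨k, hk, hk2⟩ := D.set.H.gam false false m⁻¹ l⁻¹ (inv_ne_zero hm) (inv_ne_zero hl)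
  have h1 := acts_mulS F hk2 h
  have key : ∀ l : F4, l ≠ 0 → sm false l⁻¹ l = 1 := by decide
  rw [key l hl, key m hm, Bool.false_xor, Bool.false_xor] at h1
  have h2 := acts_mulS F (D.fe_act (!e') (!e)) h1
  have key2 : ∀ e : Bool, xor (!e) e = true := by decide
  have key3 : ∀ e, sm e 1 1 = 1 := by decide
  rw [key2, key2, key3, key3] at h2
  have h3 : NT F (fe f1 f2 (!e') (!e) * (k * g)) := (D.le (D.fe_mem _ _)).1.mul (hk.mul hg)
  obtain ⟨t, ht, htQ, htM⟩ := cover_c D.set D.T0_le D.le D.cov ⟨h3, true, true, Or.inr h2⟩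
  have h4 := actsS_of_mem htM h2
  refine ⟨t, ht, htQ, ?_, h4⟩
  apply D.eq_one (T.mul_mem ht ht) (htQ.mul htQ)
  have := actsS_mulS F h4 h4
  rwa [key3, Bool.xor_self] at this

/-- `T` is a maximal 2-subgroup of `N(T0)`. -/
theorem max [Finite G] {T' : Subgroup G} (hT' : IsPGroup 2 T') (hTT : T ≤ T')
    (hN : ∀ t ∈ T', NT F t) : T' ≤ T := by
  have hT0 : F.T0 ≤ T' := D.T0_le.trans hTT
  have key : ∀ c ∈ T', NQ Q c → NS F c → c ∈ T := by
    rintro c hc hcQ ⟨e, e', l, m, -, -, h⟩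
    rw [D.mem_of_ns hT' hTT hc (hN c hc) hcQ h]
    exact D.fe_mem _ _
  intro g hg
  obtain ⟨t, ht, c, hc, hcQ, hcN, rfl⟩ := exists_c D.set hT0 hg (hN g hg)
  refine T.mul_mem (D.T0_le ht) ?_
  by_cases hns : NS F c
  · exact key c hc hcQ hns
  · obtain ⟨u, hu, huQ, -, huA⟩ := D.exists_swap hcN hns
    obtain ⟨e, e', l, m, hl, hm, h⟩ := (act_cases F hcN).resolve_left hns
    have h1 : NS F (c * u) :=
      ⟨_, _, _, _, sm_ne_zero _ _ _ hm one_ne_zero, sm_ne_zero _ _ _ hl one_ne_zero,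
        actsS_mulS F h huA⟩
    have h2 := key _ (T'.mul_mem hc (hTT hu)) (hcQ.mul huQ) h1
    have e1 : c = c * u * u⁻¹ := by group
    rw [e1]
    exact T.mul_mem h2 (T.inv_mem hu)

end TD

end Cfsg.Agent.StdHeld.Struct
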