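import Cfsg.Agent.StandardComponent.HeldType.ActType

/-!
# S1747, end game: types of elements normalising `T0`

Types (`Acts`, `ActsS`) under inversion and conjugation, and the subgroups
`MM` (trivial type), `NN` (linear type), `HH` (types with `l = m = 1`, with or without interchange) of the
normaliser `XX` of `T0`.
-/

set_option autoImplicit false

namespace Cfsg.Agent.StdHeld.Types

open Cfsg.Agent.Lib.FieldFour Cfsg.Agent.StandardComponent.HeldType.Frame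
  Cfsg.Agent.StandardComponent.HeldType.T0 Cfsg.Agent.StandardComponent.HeldType.Act
  Cfsg.Agent.StandardComponent.HeldType.ActType

variable {G : Type*} [Group G] {L : Subgroup G} (F : Frm L)

/-- `g` normalises `T0` -/
def NT (g : G) : Prop := ∀ x, x ∈ F.T0 ↔ g * x * g⁻¹ ∈ F.T0

variable {F}

theorem NT.one : NT F 1 := fun x => by simp

theorem NT.mul {g h : G} (hg : NT F g) (hh : NT F h) : NT F (g * h) := fun x => by
  rw [hh x, hg (h * x * h⁻¹)]
  have : g * (h * x * h⁻¹) * g⁻¹ = g * h * x * (g * h)⁻¹ := by group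
  rw [this]

theorem NT.inv {g : G} (hg : NT F g) : NT F g⁻¹ := inv_iff F hg

theorem NT.of_mem {g : G} (hg : g ∈ F.T0) : NT F g := fun x =>
  ⟨fun h => F.T0.mul_mem (F.T0.mul_mem hg h) (F.T0.inv_mem hg), fun h => by
    have h1 := F.T0.mul_mem (F.T0.mul_mem (F.T0.inv_mem hg) h) hg
    have : g⁻¹ * (g * x * g⁻¹) * g = x := by group
    rwa [this] at h1⟩

theorem NT.conj_mem {g t : G} (hg : NT F g) (ht : t ∈ F.T0) : g * t * g⁻¹ ∈ F.T0 := (hg t).1 ht

theorem nt_of_cent {g : G} (hg : ∀ t ∈ F.T0, g * t = t * g) : NT F g := fun x => by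
  constructor
  · intro h
    rw [hg x h, mul_inv_cancel_right]
    exact h
  · intro h
    have h1 := hg _ h
    have h3 : g * x = x * g := by
      calc g * x = g⁻¹ * (g * (g * x * g⁻¹)) * g := by group
        _ = g⁻¹ * (g * x * g⁻¹ * g) * g := by rw [h1]
        _ = x * g := by group
    rwa [h3, mul_inv_cancel_right] at h

theorem nt_conj' {g t : G} (hg : NT F g) (ht : t ∈ F.T0) : g⁻¹ * t * g ∈ F.T0 := by
  have := hg.inv.conj_mem ht
  rwa [inv_inv] at this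

theorem not_both {g : G} {e e' e1 e1' : Bool} {l m l1 m1 : F4} (h : Acts F g e e' l m)
    (h' : ActsS F g e1 e1' l1 m1) (hl : l ≠ 0) : False := by
  obtain ⟨c, s, h1⟩ := h.1 1
  obtain ⟨c', s', h2⟩ := h'.1 1
  rw [h1, F.xd_eq_t, F.yd_eq_t] at h2
  have h3 := (F.t_inj h2).1
  exact absurd (sm_eq_zero e l 1 hl h3) (by decide)

theorem actsS_unique {g : G} {e e' e1 e1' : Bool} {l m l1 m1 : F4} (h : ActsS F g e e' l m)
    (h1 : ActsS F g e1 e1' l1 m1) (hl : l ≠ 0) (hm : m ≠ 0) :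
    e = e1 ∧ e' = e1' ∧ l = l1 ∧ m = m1 := by
  have h2 : ∀ a, sm e l a = sm e1 l1 a := by
    intro a
    obtain ⟨c, s, h3⟩ := h.1 a
    obtain ⟨c', s', h4⟩ := h1.1 a
    rw [h3, F.yd_eq_t, F.yd_eq_t] at h4
    exact (F.t_inj h4).2.1
  have h3 : ∀ a, sm e' m a = sm e1' m1 a := by
    intro a
    obtain ⟨c, s, h3⟩ := h.2 a
    obtain ⟨c', s', h4⟩ := h1.2 a
    rw [h3, F.xd_eq_t, F.xd_eq_t] at h4
    exact (F.t_inj h4).1
  obtain ⟨r1, r2⟩ := sm_inj _ _ _ _ hl h2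
  obtain ⟨r3, r4⟩ := sm_inj _ _ _ _ hm h3
  exact ⟨r1, r3, r2, r4⟩

theorem acts_inv {g : G} (hg : NT F g) {e e' : Bool} {l m : F4} (h : Acts F g e e' l m) :
    ∃ l' m', l' ≠ 0 ∧ m' ≠ 0 ∧ sm e l l' = 1 ∧ sm e' m m' = 1 ∧
      Acts F g⁻¹ e e' l' m' := by
  rcases act_cases F hg.inv with ⟨e1, e1', l1, m1, hl1, hm1, h1⟩ | ⟨e1, e1', l1, m1, hl1, hm1, h1⟩
  · have h2 := acts_mul F h h1
    rw [mul_inv_cancel] at h2
    obtain ⟨h3, h4, h5, h6⟩ := acts_unique F (acts_one F) h2 one_ne_zero one_ne_zero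
    have h7 : e1 = e := by revert h3; cases e <;> cases e1 <;> decide
    have h8 : e1' = e' := by revert h4; cases e' <;> cases e1' <;> decide
    subst h7 h8
    exact ⟨l1, m1, hl1, hm1, h5.symm, h6.symm, h1⟩
  · have h2 := acts_mulS F h h1
    rw [mul_inv_cancel] at h2
    exact absurd (not_both (acts_one F) h2 one_ne_zero) id

theorem actsS_inv {g : G} (hg : NT F g) {e e' : Bool} {l m : F4} (h : ActsS F g e e' l m) :
    ∃ l' m', l' ≠ 0 ∧ m' ≠ 0 ∧ sm e' m l' = 1 ∧ sm e l m' = 1 ∧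
      ActsS F g⁻¹ e' e l' m' := by
  rcases act_cases F hg.inv with ⟨e1, e1', l1, m1, hl1, hm1, h1⟩ | ⟨e1, e1', l1, m1, hl1, hm1, h1⟩
  · have h2 := actsS_mul F h h1
    rw [mul_inv_cancel] at h2
    exact absurd (not_both (acts_one F) h2 one_ne_zero) id
  · have h2 := actsS_mulS F h h1
    rw [mul_inv_cancel] at h2
    obtain ⟨h3, h4, h5, h6⟩ := acts_unique F (acts_one F) h2 one_ne_zero one_ne_zero
    have h7 : e1 = e' := by revert h3; cases e' <;> cases e1 <;> decide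
    have h8 : e1' = e := by revert h4; cases e <;> cases e1' <;> decide
    subst h7 h8
    exact ⟨l1, m1, hl1, hm1, h5.symm, h6.symm, h1⟩

variable (F)

/-- the normaliser of `T0` -/
def XX : Subgroup G where
  carrier := {g | NT F g}
  one_mem' := NT.one
  mul_mem' := NT.mul
  inv_mem' := NT.inv

theorem mem_XX {g : G} : g ∈ XX F ↔ NT F g := Iff.rfl

/-- the elements acting trivially on `T0 / D0` -/
def MM : Subgroup G where
  carrier := {g | NT F g ∧ Acts F g false false 1 1}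
  one_mem' := ⟨NT.one, acts_one F⟩
  mul_mem' := by
    rintro a b ⟨ha, ha'⟩ ⟨hb, hb'⟩
    exact ⟨ha.mul hb, acts_mul F ha' hb'⟩
  inv_mem' := by
    rintro a ⟨ha, ha'⟩
    refine ⟨ha.inv, ?_⟩
    obtain ⟨l, m, hl, hm, h1, h2, h3⟩ := acts_inv ha ha'
    rw [sm_false_one] at h1 h2
    subst h1 h2
    exact h3

theorem mem_MM {g : G} : g ∈ MM F ↔ NT F g ∧ Acts F g false false 1 1 := Iff.rfl

/-- the elements of linear type -/
def NN : Subgroup G where
  carrier := {g | NT F g ∧ ∃ l m, l ≠ 0 ∧ m ≠ 0 ∧ Acts F g false false l m}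
  one_mem' := ⟨NT.one, 1, 1, one_ne_zero, one_ne_zero, acts_one F⟩
  mul_mem' := by
    rintro a b ⟨ha, l, m, hl, hm, ha'⟩ ⟨hb, l', m', hl', hm', hb'⟩
    exact ⟨ha.mul hb, _, _, sm_ne_zero _ _ _ hl hl', sm_ne_zero _ _ _ hm hm',
      acts_mul F ha' hb'⟩
  inv_mem' := by
    rintro a ⟨ha, l, m, hl, hm, ha'⟩
    obtain ⟨l', m', hl', hm', h1, h2, h3⟩ := acts_inv ha ha'
    exact ⟨ha.inv, l', m', hl', hm', h3⟩

theorem mem_NN {g : G} : g ∈ NN F ↔ NT F g ∧ ∃ l m, l ≠ 0 ∧ m ≠ 0 ∧ Acts F g false false l m :=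
  Iff.rfl

/-- the elements of type `l = m = 1`, with or without interchange -/
def HH : Subgroup G where
  carrier := {g | NT F g ∧ ∃ e e', Acts F g e e' 1 1 ∨ ActsS F g e e' 1 1}
  one_mem' := ⟨NT.one, false, false, Or.inl (acts_one F)⟩
  mul_mem' := by
    have key : ∀ e, sm e 1 1 = 1 := by decide
    rintro a b ⟨ha, e, e', ha'⟩ ⟨hb, e1, e1', hb'⟩
    refine ⟨ha.mul hb, ?_⟩
    rcases ha' with ha' | ha' <;> rcases hb' with hb' | hb'
    · have := acts_mul F ha' hb'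
      rw [key, key] at this
      exact ⟨_, _, Or.inl this⟩
    · have := acts_mulS F ha' hb'
      rw [key, key] at this
      exact ⟨_, _, Or.inr this⟩
    · have := actsS_mul F ha' hb'
      rw [key, key] at this
      exact ⟨_, _, Or.inr this⟩
    · have := actsS_mulS F ha' hb'
      rw [key, key] at this
      exact ⟨_, _, Or.inl this⟩
  inv_mem' := by
    have key : ∀ e l, sm e 1 l = 1 → l = 1 := by decide
    rintro a ⟨ha, e, e', ha' | ha'⟩
    · obtain ⟨l', m', hl', hm', h1, h2, h3⟩ := acts_inv ha ha'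
      rw [key _ _ h1, key _ _ h2] at h3
      exact ⟨ha.inv, _, _, Or.inl h3⟩
    · obtain ⟨l', m', hl', hm', h1, h2, h3⟩ := actsS_inv ha ha'
      rw [key _ _ h1, key _ _ h2] at h3
      exact ⟨ha.inv, _, _, Or.inr h3⟩

theorem mem_HH {g : G} : g ∈ HH F ↔ NT F g ∧ ∃ e e', Acts F g e e' 1 1 ∨ ActsS F g e e' 1 1 :=
  Iff.rfl

theorem T0_le_MM : F.T0 ≤ MM F := fun _ hg => ⟨NT.of_mem hg, acts_T0 F hg⟩

theorem MM_le_NN : MM F ≤ NN F := fun _ hg => ⟨hg.1, 1, 1, one_ne_zero, one_ne_zero, hg.2⟩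

theorem MM_le_HH : MM F ≤ HH F := fun _ hg => ⟨hg.1, false, false, Or.inl hg.2⟩

theorem NN_le_XX : NN F ≤ XX F := fun _ hg => hg.1

theorem HH_le_XX : HH F ≤ XX F := fun _ hg => hg.1

/-- `NN` is normal in the normaliser of `T0`. -/
theorem conj_NN {g n : G} (hg : NT F g) (hn : n ∈ NN F) : g * n * g⁻¹ ∈ NN F := by
  obtain ⟨hn1, l, m, hl, hm, hn2⟩ := hn
  refine ⟨(hg.mul hn1).mul hg.inv, ?_⟩
  rcases act_cases F hg with ⟨e, e', l1, m1, hl1, hm1, h1⟩ | ⟨e, e', l1, m1, hl1, hm1, h1⟩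
  · obtain ⟨l', m', hl', hm', -, -, h3⟩ := acts_inv hg h1
    have h4 := acts_mul F (acts_mul F h1 hn2) h3
    rw [Bool.xor_false, Bool.xor_false, Bool.xor_self, Bool.xor_self] at h4
    exact ⟨_, _, sm_ne_zero _ _ _ (sm_ne_zero _ _ _ hl1 hl) hl',
      sm_ne_zero _ _ _ (sm_ne_zero _ _ _ hm1 hm) hm', h4⟩
  · obtain ⟨l', m', hl', hm', -, -, h3⟩ := actsS_inv hg h1
    have h4 := actsS_mulS F (actsS_mul F h1 hn2) h3
    rw [Bool.xor_false, Bool.xor_false, Bool.xor_self, Bool.xor_self] at h4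
    exact ⟨_, _, sm_ne_zero _ _ _ (sm_ne_zero _ _ _ hm1 hm) hl',
      sm_ne_zero _ _ _ (sm_ne_zero _ _ _ hl1 hl) hm', h4⟩

/-- `MM` is normal in the normaliser of `T0`. -/
theorem conj_MM {g n : G} (hg : NT F g) (hn : n ∈ MM F) : g * n * g⁻¹ ∈ MM F := by
  obtain ⟨hn1, hn2⟩ := hn
  refine ⟨(hg.mul hn1).mul hg.inv, ?_⟩
  have key : ∀ e (l : F4), sm e l 1 = l := by decide
  rcases act_cases F hg with ⟨e, e', l1, m1, hl1, hm1, h1⟩ | ⟨e, e', l1, m1, hl1, hm1, h1⟩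
  · obtain ⟨l', m', hl', hm', h5, h6, h3⟩ := acts_inv hg h1
    have h4 := acts_mul F (acts_mul F h1 hn2) h3
    rw [Bool.xor_false, Bool.xor_false, Bool.xor_self, Bool.xor_self, key, key, h5, h6] at h4
    exact h4
  · obtain ⟨l', m', hl', hm', h5, h6, h3⟩ := actsS_inv hg h1
    have h4 := actsS_mulS F (actsS_mul F h1 hn2) h3
    rw [Bool.xor_false, Bool.xor_false, Bool.xor_self, Bool.xor_self, key, key, h5, h6] at h4
    exact h4

theorem NN_cube {n : G} (hn : n ∈ NN F) : n ^ 3 ^ 1 ∈ MM F := by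
  obtain ⟨hn1, l, m, hl, hm, hn2⟩ := hn
  have h1 := acts_pow F hn2 3
  have key : ∀ l : F4, l ≠ 0 → l ^ 3 = 1 := by decide
  rw [key l hl, key m hm] at h1
  rw [pow_one]
  exact ⟨(XX F).pow_mem hn1 3, h1⟩

theorem HH_four {n : G} (hn : n ∈ HH F) : n ^ 2 ^ 2 ∈ MM F := by
  have hX : NT F (n ^ 2 ^ 2) := (XX F).pow_mem hn.1 _
  refine ⟨hX, ?_⟩
  have key : ∀ e, sm e 1 1 = 1 := by decide
  have e1 : n ^ 2 ^ 2 = (n * n) * (n * n) := by
    rw [show 2 ^ 2 = 4 by norm_num]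
    simp only [pow_succ, pow_zero, one_mul, mul_assoc]
  rw [e1]
  obtain ⟨-, e, e', h | h⟩ := hn
  · have h1 := acts_mul F h h
    rw [key, key, Bool.xor_self, Bool.xor_self] at h1
    have h2 := acts_mul F h1 h1
    rwa [key, Bool.xor_self] at h2
  · have h1 := actsS_mulS F h h
    rw [key, key] at h1
    have h2 := acts_mul F h1 h1
    rwa [key, key, Bool.xor_self, Bool.xor_self] at h2

end Cfsg.Agent.StdHeld.Types
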